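/-
Groups with a 2-local subgroup `S₄ ≀ Z₂` of odd index, part 1: the Sylow 2-subgroup `D₈ ≀ Z₂`.
-/
import Cfsg.Agent.Inv.Z2S4
import Cfsg.Agent.Even.CharP

set_option autoImplicit false
set_option linter.unusedSectionVars false

namespace CL.WrS

open Subgroup Equiv Equiv.Perm Cfsg CL.Grp CL.Even CL.Inv.Z2S4

/-- the dihedral subgroup of `S₄` -/
def D : Subgroup S4 := centralizer {z0}

theorem mem_D {x : S4} : x ∈ D ↔ x * z0 = z0 * x := mem_centralizer_singleton_iff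

instance decD : DecidablePred (· ∈ D) := fun _ => decidable_of_iff _ mem_D.symm

/-- the normal four-group -/
def V : Subgroup S4 where
  carrier := {x | x = 1 ∨ x = z0 ∨ x = a0 ∨ x = a0 * z0}
  mul_mem' := by rintro _ _ (rfl | rfl | rfl | rfl) (rfl | rfl | rfl | rfl) <;> (rw [Set.mem_setOf_eq]; decide)
  one_mem' := Or.inl rfl
  inv_mem' := by rintro _ (rfl | rfl | rfl | rfl) <;> (rw [Set.mem_setOf_eq]; decide)

/-- the other four-group of `D` -/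
def W : Subgroup S4 where
  carrier := {x | x = 1 ∨ x = z0 ∨ x = b0 ∨ x = b0 * z0}
  mul_mem' := by rintro _ _ (rfl | rfl | rfl | rfl) (rfl | rfl | rfl | rfl) <;> (rw [Set.mem_setOf_eq]; decide)
  one_mem' := Or.inl rfl
  inv_mem' := by rintro _ (rfl | rfl | rfl | rfl) <;> (rw [Set.mem_setOf_eq]; decide)

/-- the centre of `D` -/
def Z : Subgroup S4 where
  carrier := {x | x = 1 ∨ x = z0}
  mul_mem' := by rintro _ _ (rfl | rfl) (rfl | rfl) <;> (rw [Set.mem_setOf_eq]; decide)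
  one_mem' := Or.inl rfl
  inv_mem' := by rintro _ (rfl | rfl) <;> (rw [Set.mem_setOf_eq]; decide)

theorem mem_V {x : S4} : x ∈ V ↔ x = 1 ∨ x = z0 ∨ x = a0 ∨ x = a0 * z0 := Iff.rfl
theorem mem_W {x : S4} : x ∈ W ↔ x = 1 ∨ x = z0 ∨ x = b0 ∨ x = b0 * z0 := Iff.rfl
theorem mem_Z {x : S4} : x ∈ Z ↔ x = 1 ∨ x = z0 := Iff.rfl

instance decV : DecidablePred (· ∈ V) := fun _ => decidable_of_iff _ mem_V.symm
instance decW : DecidablePred (· ∈ W) := fun _ => decidable_of_iff _ mem_W.symm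
instance decZ : DecidablePred (· ∈ Z) := fun _ => decidable_of_iff _ mem_Z.symm

/-- the two four-groups -/
def E : Bool → Subgroup S4
  | true => V
  | false => W

instance decE (b : Bool) : DecidablePred (· ∈ E b) := by
  cases b
  exacts [decW, decV]

theorem card_D : Nat.card D = 8 := by rw [Nat.card_eq_fintype_card]; decide +kernel
theorem card_E (b : Bool) : Nat.card (E b) = 4 := by
  rw [Nat.card_eq_fintype_card]; revert b; decide +kernel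
theorem E_le (b : Bool) : E b ≤ D := by
  have : ∀ b : Bool, ∀ x ∈ E b, x ∈ D := by decide +kernel
  exact this b
theorem E_sq : ∀ b : Bool, ∀ x ∈ E b, x * x = 1 := by decide +kernel
theorem E_comm : ∀ b : Bool, ∀ x ∈ E b, ∀ y ∈ E b, x * y = y * x := by decide +kernel
theorem E_conj : ∀ b : Bool, ∀ d ∈ D, ∀ x ∈ E b, d * x * d⁻¹ ∈ E b := by decide +kernel
theorem V_conj : ∀ d : S4, ∀ x ∈ V, d * x * d⁻¹ ∈ V := by decide +kernel
theorem Z_le (b : Bool) : Z ≤ E b := by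
  have : ∀ b : Bool, ∀ x ∈ Z, x ∈ E b := by decide +kernel
  exact this b
theorem D_sq : ∀ x ∈ D, x * x ∈ Z := by decide +kernel
theorem D_four : ∀ x ∈ D, x * x * (x * x) = 1 := by decide +kernel
theorem D_dec : ∀ x ∈ D, ∃ v ∈ V, ∃ w ∈ W, x = v * w := by decide +kernel
theorem Z_comm : ∀ x ∈ Z, ∀ d ∈ D, x * d = d * x := by decide +kernel
theorem E_inf : ∀ b : Bool, ∀ x ∈ E b, x ∈ E (!b) → x ∈ Z := by decide +kernel
theorem E_ne : ∀ b : Bool, ∃ x ∈ E b, ∃ d ∈ D, x * d ≠ d * x := by decide +kernel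
theorem E_ne' : ∀ b c : Bool, (∀ x ∈ E b, x ∈ E c) → b = c := by decide +kernel
theorem norm_D : ∀ x : S4, x * (a0 * b0) * x⁻¹ ∈ D → x ∈ D := by decide +kernel

theorem le_E {X : Subgroup S4} (hX : X ≤ D) (h : ∀ x ∈ X, x * x = 1) : ∃ b, X ≤ E b := by
  by_contra hc
  push Not at hc
  obtain ⟨x, hx, hx'⟩ := SetLike.not_le_iff_exists.1 (hc true)
  obtain ⟨y, hy, hy'⟩ := SetLike.not_le_iff_exists.1 (hc false)
  have : ∀ x ∈ D, x * x = 1 → x ∉ V → ∀ y ∈ D, y * y = 1 → y ∉ W → x * y * (x * y) ≠ 1 := by decide +kernel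
  exact this x (hX hx) (h x hx) hx' y (hX hy) (h y hy) hy' (h _ (mul_mem hx hy))

theorem card_le_two_mul {G : Type*} [Group G] [Finite G] {U K : Subgroup G}
    (h : ∃ a ∈ U, ∀ b ∈ U, b * a ∈ K ∨ b ∈ K) : Nat.card U ≤ 2 * Nat.card (K ⊓ U : Subgroup G) := by
  have h1 := Nat.le_of_dvd two_pos (relIndex_dvd_two_iff.2 h)
  have h2 := (K.subgroupOf U).card_mul_index
  rw [← card_map_subtype, subgroupOf_map_subtype] at h2
  rw [← h2, mul_comm]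
  exact Nat.mul_le_mul_right _ h1

/-- an embedded wreath product `S₄ ≀ Z₂` -/
structure Cf (G : Type*) [Group G] where
  j : S4 × S4 →* G
  inj : Function.Injective j
  t : G
  tt : t * t = 1
  tj : ∀ x y, t * j (x, y) = j (y, x) * t
  tn : ∀ p, j p ≠ t

variable {G : Type*} [Group G] (C : Cf G)

namespace Cf

/-- the element `(x, y)` -/
def J (x y : S4) : G := C.j (x, y)

theorem J_mul (x y x' y' : S4) : C.J x y * C.J x' y' = C.J (x * x') (y * y') := (map_mul C.j _ _).symm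
theorem J_inv (x y : S4) : (C.J x y)⁻¹ = C.J x⁻¹ y⁻¹ := (map_inv C.j _).symm
theorem J_one : C.J 1 1 = 1 := map_one C.j
theorem J_conj (x y x' y' : S4) : C.J x y * C.J x' y' * (C.J x y)⁻¹ = C.J (x * x' * x⁻¹) (y * y' * y⁻¹) := by
  rw [J_inv, J_mul, J_mul]
theorem J_inj {x y x' y' : S4} : C.J x y = C.J x' y' ↔ x = x' ∧ y = y' := C.inj.eq_iff.trans Prod.ext_iff
theorem J_eq_one {x y : S4} : C.J x y = 1 ↔ x = 1 ∧ y = 1 := by rw [← C.J_one, J_inj]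
theorem t_J (x y : S4) : C.t * C.J x y = C.J y x * C.t := C.tj x y
theorem t_inv : C.t⁻¹ = C.t := inv_eq_of_mul_eq_one_right C.tt
theorem t_conj (x y : S4) : C.t * C.J x y * C.t⁻¹ = C.J y x := by rw [t_J, mul_inv_cancel_right]
theorem J_ne (x y x' y' : S4) : C.J x y ≠ C.J x' y' * C.t := fun h =>
  C.tn (x'⁻¹ * x, y'⁻¹ * y) (by
    change C.J _ _ = _
    rw [← J_mul, h, ← J_inv, inv_mul_cancel_left])
theorem Jt_mul (x y x' y' : S4) : C.J x y * C.t * C.J x' y' = C.J (x * y') (y * x') * C.t := by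
  rw [mul_assoc, t_J, ← mul_assoc, J_mul]
theorem Jt_mul_Jt (x y x' y' : S4) : C.J x y * C.t * (C.J x' y' * C.t) = C.J (x * y') (y * x') := by
  rw [← mul_assoc, Jt_mul, mul_assoc, C.tt, mul_one]
theorem Jt_conj (x y x' y' : S4) :
    C.J x y * C.t * C.J x' y' * (C.J x y * C.t)⁻¹ = C.J (x * y' * x⁻¹) (y * x' * y⁻¹) := by
  rw [Jt_mul, mul_inv_rev, ← mul_assoc, mul_inv_cancel_right, J_inv, J_mul]
theorem J_comm {x y x' y' : S4} : C.J x y * C.J x' y' = C.J x' y' * C.J x y ↔ x * x' = x' * x ∧ y * y' = y' * y := by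
  rw [J_mul, J_mul, J_inj]

/-- the subgroup `X × Y` -/
def P (X Y : Subgroup S4) : Subgroup G := (X.prod Y).map C.j

theorem mem_P {X Y : Subgroup S4} {g : G} : g ∈ C.P X Y ↔ ∃ x ∈ X, ∃ y ∈ Y, g = C.J x y :=
  ⟨fun ⟨p, hp, e⟩ => ⟨p.1, hp.1, p.2, hp.2, e.symm⟩, fun ⟨x, hx, y, hy, e⟩ => ⟨(x, y), ⟨hx, hy⟩, e.symm⟩⟩

theorem J_mem {X Y : Subgroup S4} {x y : S4} : C.J x y ∈ C.P X Y ↔ x ∈ X ∧ y ∈ Y :=
  ⟨fun h => by
    obtain ⟨x', hx, y', hy, e⟩ := C.mem_P.1 h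
    obtain ⟨rfl, rfl⟩ := C.J_inj.1 e
    exact ⟨hx, hy⟩, fun h => C.mem_P.2 ⟨x, h.1, y, h.2, rfl⟩⟩

theorem Jt_notMem {X Y : Subgroup S4} {x y : S4} : C.J x y * C.t ∉ C.P X Y := fun h => by
  obtain ⟨x', -, y', -, e⟩ := C.mem_P.1 h
  exact C.J_ne _ _ _ _ e.symm

theorem card_P (X Y : Subgroup S4) : Nat.card (C.P X Y) = Nat.card X * Nat.card Y := by
  rw [P, card_map_of_injective C.inj, Nat.card_congr (prodEquiv X Y).toEquiv, Nat.card_prod]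

theorem P_mono {X Y X' Y' : Subgroup S4} (h : X ≤ X') (h' : Y ≤ Y') : C.P X Y ≤ C.P X' Y' :=
  map_mono (prod_mono h h')

/-- the subgroup `X ≀ Z₂` -/
def Tw (X : Subgroup S4) : Subgroup G where
  carrier := {g | ∃ x ∈ X, ∃ y ∈ X, g = C.J x y ∨ g = C.J x y * C.t}
  one_mem' := ⟨1, one_mem _, 1, one_mem _, Or.inl C.J_one.symm⟩
  mul_mem' := by
    rintro _ _ ⟨x, hx, y, hy, rfl | rfl⟩ ⟨x', hx', y', hy', rfl | rfl⟩
    · exact ⟨_, mul_mem hx hx', _, mul_mem hy hy', Or.inl (C.J_mul ..)⟩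
    · exact ⟨_, mul_mem hx hx', _, mul_mem hy hy', Or.inr (by rw [← mul_assoc, J_mul])⟩
    · exact ⟨_, mul_mem hx hy', _, mul_mem hy hx', Or.inr (C.Jt_mul ..)⟩
    · exact ⟨_, mul_mem hx hy', _, mul_mem hy hx', Or.inl (C.Jt_mul_Jt ..)⟩
  inv_mem' := by
    rintro _ ⟨x, hx, y, hy, rfl | rfl⟩
    · exact ⟨_, inv_mem hx, _, inv_mem hy, Or.inl (C.J_inv ..)⟩
    · exact ⟨_, inv_mem hy, _, inv_mem hx, Or.inr (by rw [mul_inv_rev, t_inv, J_inv, t_J])⟩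

theorem mem_Tw {X : Subgroup S4} {g : G} :
    g ∈ C.Tw X ↔ ∃ x ∈ X, ∃ y ∈ X, g = C.J x y ∨ g = C.J x y * C.t := Iff.rfl

theorem P_le_Tw (X : Subgroup S4) : C.P X X ≤ C.Tw X := fun _ h =>
  let ⟨x, hx, y, hy, e⟩ := C.mem_P.1 h; ⟨x, hx, y, hy, Or.inl e⟩

theorem t_mem (X : Subgroup S4) : C.t ∈ C.Tw X := ⟨1, one_mem _, 1, one_mem _, Or.inr (by rw [J_one, one_mul])⟩

theorem J_mem_Tw {X : Subgroup S4} {x y : S4} : C.J x y ∈ C.Tw X ↔ x ∈ X ∧ y ∈ X :=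
  ⟨by
    rintro ⟨x', hx, y', hy, e | e⟩
    · obtain ⟨rfl, rfl⟩ := C.J_inj.1 e
      exact ⟨hx, hy⟩
    · exact absurd e (C.J_ne _ _ _ _), fun h => ⟨x, h.1, y, h.2, Or.inl rfl⟩⟩

theorem Jt_mem_Tw {X : Subgroup S4} {x y : S4} : C.J x y * C.t ∈ C.Tw X ↔ x ∈ X ∧ y ∈ X := by
  rw [mul_mem_cancel_right (C.t_mem X), J_mem_Tw]

theorem mul_mem_P {X : Subgroup S4} {g h : G} (hg : g ∈ C.Tw X) (hh : h ∈ C.Tw X) (hg' : g ∉ C.P X X)
    (hh' : h ∉ C.P X X) : g * h ∈ C.P X X := by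
  obtain ⟨x, hx, y, hy, rfl | rfl⟩ := hg
  · exact absurd (C.J_mem.2 ⟨hx, hy⟩) hg'
  obtain ⟨x', hx', y', hy', rfl | rfl⟩ := hh
  · exact absurd (C.J_mem.2 ⟨hx', hy'⟩) hh'
  rw [Jt_mul_Jt]; exact C.J_mem.2 ⟨mul_mem hx hy', mul_mem hy hx'⟩

theorem sq_mem_P {X : Subgroup S4} {g : G} (hg : g ∈ C.Tw X) : g * g ∈ C.P X X := by
  by_cases h : g ∈ C.P X X
  exacts [mul_mem h h, C.mul_mem_P hg hg h h]

theorem card_le_Tw [Finite G] {X : Subgroup S4} {U : Subgroup G} (hU : U ≤ C.Tw X) :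
    Nat.card U ≤ 2 * Nat.card (C.P X X ⊓ U : Subgroup G) := by
  by_cases h : U ≤ C.P X X
  · exact card_le_two_mul ⟨1, one_mem _, fun b hb => Or.inr (h hb)⟩
  · obtain ⟨a, ha, ha'⟩ := SetLike.not_le_iff_exists.1 h
    exact card_le_two_mul ⟨a, ha, fun b hb => (em (b ∈ C.P X X)).elim Or.inr fun h =>
      Or.inl (C.mul_mem_P (hU hb) (hU ha) h ha')⟩

theorem sq_T0 {g : G} (hg : g ∈ C.P D D) : g * g ∈ C.P Z Z := by
  obtain ⟨x, hx, y, hy, rfl⟩ := C.mem_P.1 hg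
  rw [J_mul]; exact C.J_mem.2 ⟨D_sq x hx, D_sq y hy⟩

theorem isP_T : IsPGroup 2 (C.Tw D) := isPGroup_iff_forall.2 fun g hg => ⟨3, by
  obtain ⟨x, hx, y, hy, e⟩ := C.mem_P.1 (C.sq_mem_P hg)
  rw [show 2 ^ 3 = 2 * (2 * 2) from rfl, pow_mul, pow_mul, pow_two g, e, pow_two, pow_two, J_mul, J_mul,
    D_four x hx, D_four y hy, J_one]⟩

theorem isP_le {U : Subgroup G} (h : U ≤ C.Tw D) : IsPGroup 2 U := C.isP_T.to_le h

theorem P_le_T {X Y : Subgroup S4} (hX : X ≤ D) (hY : Y ≤ D) : C.P X Y ≤ C.Tw D :=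
  (C.P_mono hX hY).trans (C.P_le_Tw D)

/-- the four elementary abelian subgroups of order sixteen -/
def F (i : Bool × Bool) : Subgroup G := C.P (E i.1) (E i.2)

theorem F_le (i : Bool × Bool) : C.F i ≤ C.P D D := C.P_mono (E_le _) (E_le _)
theorem card_F (i : Bool × Bool) : Nat.card (C.F i) = 16 := by rw [F, card_P, card_E, card_E]
theorem F_sq (i : Bool × Bool) : ∀ g ∈ C.F i, g * g = 1 := fun g hg => by
  obtain ⟨x, hx, y, hy, rfl⟩ := C.mem_P.1 hg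
  rw [J_mul, E_sq _ x hx, E_sq _ y hy, J_one]
theorem F_comm (i : Bool × Bool) : C.F i ≤ 𝒞(C.F i) := fun g hg h hh => by
  obtain ⟨x, hx, y, hy, rfl⟩ := C.mem_P.1 hg
  obtain ⟨x', hx', y', hy', rfl⟩ := C.mem_P.1 hh
  exact C.J_comm.2 ⟨E_comm _ _ hx' _ hx, E_comm _ _ hy' _ hy⟩
theorem F_inj {i k : Bool × Bool} (h : C.F i = C.F k) : i = k :=
  Prod.ext (E_ne' _ _ fun x hx => (C.J_mem.1 (h.le (C.J_mem.2 ⟨hx, one_mem _⟩))).1)
    (E_ne' _ _ fun x hx => (C.J_mem.1 (h.le (C.J_mem.2 ⟨one_mem _, hx⟩))).2)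

theorem mem_norm_P [Finite G] {X Y : Subgroup S4} {x y : S4} (hx : ∀ u ∈ X, x * u * x⁻¹ ∈ X)
    (hy : ∀ u ∈ Y, y * u * y⁻¹ ∈ Y) : C.J x y ∈ 𝒩(C.P X Y) :=
  mem_norm_of_cj_le (by
    rintro _ ⟨g, hg, rfl⟩
    obtain ⟨u, hu, v, hv, rfl⟩ := C.mem_P.1 hg
    change C.J x y * C.J u v * (C.J x y)⁻¹ ∈ _
    rw [J_conj]; exact C.J_mem.2 ⟨hx u hu, hy v hv⟩)

theorem cj_t (X Y : Subgroup S4) : cj C.t (C.P X Y) = C.P Y X := by
  refine le_antisymm ?_ fun g hg => ?_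
  · rintro _ ⟨g, hg, rfl⟩
    obtain ⟨u, hu, v, hv, rfl⟩ := C.mem_P.1 hg
    change C.t * C.J u v * C.t⁻¹ ∈ _
    rw [t_conj]; exact C.J_mem.2 ⟨hv, hu⟩
  · obtain ⟨u, hu, v, hv, rfl⟩ := C.mem_P.1 hg
    exact C.t_conj v u ▸ conj_mem_cj _ (C.J_mem.2 ⟨hv, hu⟩)

theorem T0_norm [Finite G] (i : Bool × Bool) : C.P D D ≤ 𝒩(C.F i) := fun g hg => by
  obtain ⟨x, hx, y, hy, rfl⟩ := C.mem_P.1 hg
  exact C.mem_norm_P (E_conj _ x hx) (E_conj _ y hy)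

theorem T_le_of {K : Subgroup G} (h : C.P D D ≤ K) (ht : C.t ∈ K) : C.Tw D ≤ K := by
  rintro _ ⟨x, hx, y, hy, rfl | rfl⟩
  exacts [h (C.J_mem.2 ⟨hx, hy⟩), mul_mem (h (C.J_mem.2 ⟨hx, hy⟩)) ht]

theorem T_norm [Finite G] (b : Bool) : C.Tw D ≤ 𝒩(C.F (b, b)) :=
  C.T_le_of (C.T0_norm _) (cj_eq_iff_mem.1 (C.cj_t _ _))

theorem T_norm_T0 : C.Tw D ≤ 𝒩(C.P D D) := C.T_le_of le_normalizer (cj_eq_iff_mem.1 (C.cj_t _ _))

theorem T_cent_z : C.Tw D ≤ centralizer {C.J z0 z0} :=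
  C.T_le_of (fun g hg => by
    obtain ⟨x, hx, y, hy, rfl⟩ := C.mem_P.1 hg
    exact mem_centralizer_singleton_iff.2 (C.J_comm.2 ⟨mem_D.1 hx, mem_D.1 hy⟩))
    (mem_centralizer_singleton_iff.2 (C.t_J ..))

theorem T0_cent {x y : S4} (hx : x ∈ Z) (hy : y ∈ Z) : C.P D D ≤ centralizer {C.J x y} := fun g hg => by
  obtain ⟨u, hu, v, hv, rfl⟩ := C.mem_P.1 hg
  exact mem_centralizer_singleton_iff.2 (C.J_comm.2 ⟨(Z_comm x hx u hu).symm, (Z_comm y hy v hv).symm⟩)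

theorem comm_of_sq {U : Subgroup G} (h : ∀ u ∈ U, u * u = 1) {a b : G} (ha : a ∈ U) (hb : b ∈ U) :
    a * b = b * a := by
  have h1 := h _ (mul_mem ha hb)
  calc a * b = (a * b)⁻¹ := (inv_eq_of_mul_eq_one_right h1).symm
    _ = b * a := by rw [mul_inv_rev, inv_eq_of_mul_eq_one_right (h a ha), inv_eq_of_mul_eq_one_right (h b hb)]

/-- the elementary abelian subgroups of order sixteen -/
theorem eq_F [Finite G] {U : Subgroup G} (hU : U ≤ C.Tw D) (h : ∀ u ∈ U, u * u = 1) (hc : 16 ≤ Nat.card U) :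
    ∃ i, U = C.F i := by
  have hd : ∀ p : S4 × S4, p ∈ U.comap C.j → p.1 ∈ D ∧ p.2 ∈ D ∧ p.1 * p.1 = 1 ∧ p.2 * p.2 = 1 := fun p hp => by
    have h1 := C.J_mem_Tw.1 (hU hp)
    have h2 : C.J p.1 p.2 * C.J p.1 p.2 = 1 := h _ hp
    rw [J_mul, J_eq_one] at h2
    exact ⟨h1.1, h1.2, h2⟩
  obtain ⟨b, hb⟩ := le_E (X := (U.comap C.j).map (MonoidHom.fst _ _))
    (by rintro _ ⟨p, hp, rfl⟩; exact (hd p hp).1) (by rintro _ ⟨p, hp, rfl⟩; exact (hd p hp).2.2.1)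
  obtain ⟨c, hc'⟩ := le_E (X := (U.comap C.j).map (MonoidHom.snd _ _))
    (by rintro _ ⟨p, hp, rfl⟩; exact (hd p hp).2.1) (by rintro _ ⟨p, hp, rfl⟩; exact (hd p hp).2.2.2)
  by_cases h0 : U ≤ C.P D D
  · refine ⟨(b, c), eq_of_le_of_card_ge (fun g hg => ?_) (by rw [card_F]; exact hc)⟩
    obtain ⟨x, -, y, -, rfl⟩ := C.mem_P.1 (h0 hg)
    exact C.J_mem.2 ⟨hb ⟨(x, y), hg, rfl⟩, hc' ⟨(x, y), hg, rfl⟩⟩
  exfalso
  obtain ⟨e, he, he'⟩ := SetLike.not_le_iff_exists.1 h0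
  obtain ⟨x, hx, y, hy, rfl | rfl⟩ := hU he
  · exact he' (C.J_mem.2 ⟨hx, hy⟩)
  have h1 := C.card_le_Tw hU
  have h2 : C.P D D ⊓ U ≤ (U.comap C.j).map C.j := fun g hg => by
    obtain ⟨u, -, v, -, rfl⟩ := C.mem_P.1 hg.1
    exact ⟨(u, v), hg.2, rfl⟩
  have h3 := card_le_of_le h2
  rw [card_map_of_injective C.inj] at h3
  have h4 : Nat.card (U.comap C.j) ≤ Nat.card (E b) := by
    refine Nat.card_le_card_of_injective (fun p => ⟨p.1.1, hb ⟨p.1, p.2, rfl⟩⟩) fun p q e => ?_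
    have e1 : p.1.1 = q.1.1 := congrArg Subtype.val e
    have key : ∀ r : U.comap C.j, x * r.1.2 = r.1.1 * x := fun r => by
      have := comm_of_sq h he (show C.J r.1.1 r.1.2 ∈ U from r.2)
      rw [Jt_mul, ← mul_assoc, J_mul, mul_left_inj, J_inj] at this
      exact this.1
    exact Subtype.ext (Prod.ext e1 (mul_left_cancel (a := x) (by rw [key, key, e1])))
  rw [card_E] at h4
  omega

theorem cj_F [Finite G] {g : G} {i : Bool × Bool} (h : cj g (C.F i) ≤ C.Tw D) : ∃ k, cj g (C.F i) = C.F k :=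
  C.eq_F h (by
    rintro _ ⟨u, hu, rfl⟩
    change g * u * g⁻¹ * (g * u * g⁻¹) = 1
    rw [conj_mul, C.F_sq i u hu]; simp) (by rw [card_cj, card_F])

theorem T0_le_sup : C.P D D ≤ C.F (true, true) ⊔ C.F (false, false) := fun g hg => by
  obtain ⟨x, hx, y, hy, rfl⟩ := C.mem_P.1 hg
  obtain ⟨v, hv, w, hw, rfl⟩ := D_dec x hx
  obtain ⟨v', hv', w', hw', rfl⟩ := D_dec y hy
  rw [← J_mul]
  exact mul_mem (mem_sup_left (C.J_mem.2 ⟨hv, hv'⟩)) (mem_sup_right (C.J_mem.2 ⟨hw, hw'⟩))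

theorem opp_iff {i k : Bool × Bool} : C.F i ⊓ C.F k ≤ 𝒞(C.P D D) ↔ k = (!i.1, !i.2) := by
  constructor
  · intro h
    refine Prod.ext (Bool.eq_not_iff.2 fun e => ?_) (Bool.eq_not_iff.2 fun e => ?_)
    · obtain ⟨x, hx, d, hd, hne⟩ := E_ne i.1
      have := h (x := C.J x 1) ⟨C.J_mem.2 ⟨hx, one_mem _⟩, C.J_mem.2 ⟨e ▸ hx, one_mem _⟩⟩ (C.J d 1)
        (C.J_mem.2 ⟨hd, one_mem _⟩)
      exact hne (C.J_comm.1 this).1.symm
    · obtain ⟨x, hx, d, hd, hne⟩ := E_ne i.2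
      have := h (x := C.J 1 x) ⟨C.J_mem.2 ⟨one_mem _, hx⟩, C.J_mem.2 ⟨one_mem _, e ▸ hx⟩⟩ (C.J 1 d)
        (C.J_mem.2 ⟨one_mem _, hd⟩)
      exact hne (C.J_comm.1 this).2.symm
  · rintro rfl g ⟨h1, h2⟩ h hh
    obtain ⟨x, hx, y, hy, rfl⟩ := C.mem_P.1 h1
    obtain ⟨h3, h4⟩ := C.J_mem.1 h2
    exact mem_centralizer_singleton_iff.1 (C.T0_cent (E_inf _ x hx h3) (E_inf _ y hy h4) hh)

theorem pow_four_mem [Finite G] {g : G} (hg : g ∈ 𝒩(C.P D D)) : g ^ 2 ^ 2 ∈ 𝒩(C.F (true, true)) := by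
  choose π hπ using fun i => C.cj_F (g := g) (i := i)
    ((cj_le_of_le (C.F_le i) hg).trans (C.P_le_Tw D))
  have h1 : ∀ i k, π i = π k → i = k := fun i k e => C.F_inj (cj_inj.1 (by rw [hπ, hπ, e]))
  have h2 : ∀ i, π (!i.1, !i.2) = (!(π i).1, !(π i).2) := fun i => by
    rw [← opp_iff C, ← hπ, ← hπ, ← cj_inf, ← cj_eq hg, ← cj_cent, cj_le_cj, opp_iff]
  have h3 : ∀ π : Bool × Bool → Bool × Bool, (∀ i k, π i = π k → i = k) →
      (∀ i, π (!i.1, !i.2) = (!(π i).1, !(π i).2)) → π (π (π (π (true, true)))) = (true, true) := by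
    decide +kernel
  rw [← cj_eq_iff_mem, show g ^ 2 ^ 2 = g * (g * (g * g)) by
      rw [show 2 ^ 2 = 1 + 3 from rfl, pow_add, pow_one, pow_three], cj_mul, cj_mul, cj_mul,
    hπ, hπ, hπ, hπ, h3 π h1 h2]

end Cf

/-- `T = D₈ ≀ Z₂` is a Sylow 2-subgroup and `N(A) = S₄ ≀ Z₂` -/
structure Hy (C : Cf G) : Prop where
  syl : IsSylowIn 2 (C.Tw D) ⊤
  nA : 𝒩(C.F (true, true)) ≤ C.Tw ⊤

namespace Hy

variable {C} (h : Hy C) [Finite G]
include h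

theorem sylT {X : Subgroup G} (hX : C.Tw D ≤ X) : IsSylowIn 2 (C.Tw D) X := h.syl.of_le hX le_top

theorem norm_T0 : 𝒩(C.P D D) ≤ C.Tw D := by
  have h1 : 𝒩(C.P D D) ≤ 𝒩(C.F (true, true)) :=
    le_of_syl_of_res (h.sylT C.T_norm_T0) (C.T_norm true) (res_le_of_pow fun x hx => ⟨2, C.pow_four_mem hx⟩)
  have key : ∀ x y, C.J x y ∈ 𝒩(C.P D D) → C.J x y ∈ C.Tw D := fun x y hg => by
    have h2 := conj_mem hg (C.J_mem.2 ⟨(by decide : a0 * b0 ∈ D), (by decide : a0 * b0 ∈ D)⟩)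
    rw [C.J_conj, C.J_mem] at h2
    exact C.J_mem_Tw.2 ⟨norm_D x h2.1, norm_D y h2.2⟩
  intro g hg
  obtain ⟨x, -, y, -, rfl | rfl⟩ := h.nA (h1 hg)
  · exact key x y hg
  · exact mul_mem (key x y ((mul_mem_cancel_right (C.T_norm_T0 (C.t_mem D))).1 hg)) (C.t_mem D)

theorem mem_T {g : G} (hg : cj g (C.P D D) ≤ C.Tw D) : g ∈ C.Tw D := by
  refine h.norm_T0 (mem_norm_of_cj_le ((cj_mono g C.T0_le_sup).trans ?_))
  rw [cj_sup]
  obtain ⟨i, hi⟩ := C.cj_F ((cj_mono g (C.F_le (true, true))).trans hg)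
  obtain ⟨k, hk⟩ := C.cj_F ((cj_mono g (C.F_le (false, false))).trans hg)
  rw [hi, hk]
  exact sup_le (C.F_le _) (C.F_le _)

theorem sylT0 {X : Subgroup G} (hX : C.P D D ≤ X) (hx : ∀ x ∈ D, ∀ y ∈ D, C.J x y * C.t ∉ X) :
    IsSylowIn 2 (C.P D D) X := by
  refine isSylowIn_of_maximal hX (C.isP_le (C.P_le_Tw D)) fun U hU h1 h2 => ?_
  by_contra hne
  obtain ⟨g, hg, hg'⟩ := SetLike.exists_of_lt (lt_inf_normalizer_of_isPGroup hU (lt_of_le_of_ne h1 (Ne.symm hne)))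
  obtain ⟨x, hx', y, hy, rfl | rfl⟩ := h.norm_T0 hg.2
  exacts [hg' (C.J_mem.2 ⟨hx', hy⟩), hx x hx' y hy (h2 hg.1)]

theorem wc {X Y : Subgroup G} {g : G} (e : cj g X = Y) (hX : C.P D D ≤ 𝒩(X)) (hY : C.Tw D ≤ 𝒩(Y)) : X = Y := by
  obtain ⟨n, hn, h1⟩ := syl_conj_le (h.sylT hY) (isPGroup_cj (C.isP_le (C.P_le_Tw D)) g)
    (by rw [← e, ← cj_norm]; exact cj_mono g hX)
  rw [← cj_mul] at h1
  rw [← cj_inj (g := n * g), cj_eq (hY (h.mem_T h1)), cj_mul, e, cj_eq hn]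

theorem not_conj : ¬ IsConj (C.J z0 1) (C.J z0 z0) := fun hc => by
  obtain ⟨g, hg⟩ := isConj_iff.1 hc
  obtain ⟨n, hn, h1⟩ := syl_conj_le (h.sylT C.T_cent_z) (isPGroup_cj (C.isP_le (C.P_le_Tw D)) g) (by
    rintro _ ⟨u, hu, rfl⟩
    rw [mem_centralizer_singleton_iff, ← hg]
    change g * u * g⁻¹ * _ = _ * (g * u * g⁻¹)
    rw [conj_mul, conj_mul, mem_centralizer_singleton_iff.1 (C.T0_cent (Or.inr rfl) (one_mem _) hu)])
  rw [← cj_mul] at h1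
  have h2 := mem_centralizer_singleton_iff.1 (C.T_cent_z (h.mem_T h1))
  have h3 := mem_centralizer_singleton_iff.1 hn
  have : C.J z0 1 = C.J z0 z0 := by
    calc C.J z0 1 = (n * g)⁻¹ * (n * (g * C.J z0 1 * g⁻¹) * n⁻¹) * (n * g) := by group
      _ = C.J z0 z0 := by rw [hg, h3, mul_inv_cancel_right, mul_assoc, ← h2, inv_mul_cancel_left]
  exact absurd (C.J_inj.1 this).2 (by decide)

end Hy

end CL.WrS
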