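/-
Groups with a 2-local subgroup `S₄ ≀ Z₂` of odd index, part 2: centralizers and the first transfer.
-/
import Cfsg.Agent.QT.WrS1
import Cfsg.Agent.Transfer.Mackey

set_option autoImplicit false
set_option linter.unusedSectionVars false

namespace CL.WrS

open Subgroup Equiv Equiv.Perm Cfsg CL.Grp CL.Even CL.Inv.Z2S4
open scoped commutatorElement

variable {G : Type*} [Group G]

/-- Thompson's transfer lemma, extremal form -/
theorem ext_transfer [Finite G] [IsSimpleGroup G] (hG : ¬ IsMulCommutative G) {S T R : Subgroup G}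
    (hS : IsSylowIn 2 S ⊤) (hT : ∀ x ∈ S, ∀ y ∈ S, x ∉ T → y ∉ T → x * y ∈ T) {y : G} (hy : y * y = 1)
    (hR : IsPGroup 2 R) (hyR : y ∈ R) (hc : R ≤ centralizer {y}) :
    ∃ g : G, g * y * g⁻¹ ∈ T ∧ cj g R ≤ S := by
  classical
  by_contra hcon
  push Not at hcon
  let ϕ : S →* ℤˣ := MonoidHom.mk' (fun h => if (h : G) ∈ T then 1 else -1) fun a b => by
    by_cases ha : (a : G) ∈ T <;> by_cases hb : (b : G) ∈ T <;>
      simp [ha, hb, mul_mem_cancel_left, mul_mem_cancel_right, hT _ a.2 _ b.2]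
  have h1 : MonoidHom.transfer ϕ (⟨y, hyR⟩ : R) = (-1) ^ S.index := by
    refine CL.Transfer.transfer_eq_pow_of_doubleCoset ϕ R ⟨y, hyR⟩ _ fun g => ?_
    by_cases ht : S.comap (CL.Transfer.conjInto R g) = ⊤
    · have h2 : ∀ r ∈ R, g⁻¹ * r * g ∈ S := fun r hr =>
        CL.Transfer.mem_comap_conjInto.mp (ht.ge (mem_top (⟨r, hr⟩ : R)))
      rw [CL.Transfer.transfer_of_eq_top _ ht, CL.Transfer.extOne_pull, ht, index_top, pow_one,
        CL.Transfer.conjInto_apply, CL.Transfer.extOne_of_mem ϕ (h2 y hyR)]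
      refine if_neg fun h => hcon g⁻¹ (by rwa [inv_inv]) ?_
      rintro _ ⟨r, hr, rfl⟩
      simpa using h2 r hr
    · obtain ⟨k, hk⟩ := hR.index (S.comap (CL.Transfer.conjInto R g))
      obtain ⟨m, hm⟩ : 2 ∣ (S.comap (CL.Transfer.conjInto R g)).index := by
        rw [hk]
        refine dvd_pow_self 2 fun h0 => ht ?_
        rwa [h0, pow_zero, index_eq_one] at hk
      rw [MonoidHom.transfer_eq_pow _ _ fun k g₀ _ => ?_]
      · conv_rhs => rw [hm, pow_mul, neg_one_sq, one_pow]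
        rw [← map_one (CL.Transfer.pull ϕ (CL.Transfer.conjInto R g))]
        congr 1
        ext
        simp [hm, pow_mul, _root_.sq, hy]
      · have h3 : Commute g₀ (⟨y, hyR⟩ : R) := Subtype.ext (mem_centralizer_singleton_iff.1 (hc g₀.2))
        rw [mul_assoc, ← (h3.pow_right k).eq, inv_mul_cancel_left]
  have h2 : (MonoidHom.transfer ϕ).ker = ⊤ := by
    refine (IsSimpleGroup.eq_bot_or_eq_top_of_normal _ inferInstance).resolve_left fun h => hG ?_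
    refine ⟨⟨fun a b => (MonoidHom.ker_eq_bot_iff _).mp h ?_⟩⟩
    rw [map_mul, map_mul, mul_comm]
  have h3 : MonoidHom.transfer ϕ y = 1 := h2.ge (mem_top y)
  have h4 : Odd S.index := Nat.odd_iff.2 (Nat.two_dvd_ne_zero.1 (by simpa using hS.not_dvd))
  rw [h4.neg_one_pow] at h1
  exact absurd (h1.symm.trans h3) (by decide)

theorem cj_of_comm {g u : G} (h : Commute u g) : g * u * g⁻¹ = u := by rw [← h.eq, mul_inv_cancel_right]

theorem comm_of_cj {g u : G} (h : g * u * g⁻¹ = u) : Commute u g := (mul_inv_eq_iff_eq_mul.1 h).symm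

theorem cj_cancel {g u v : G} (h : g * u * g⁻¹ = g * v * g⁻¹) : u = v := by simpa using h

theorem cj_cj (g h u : G) : g * h * u * (g * h)⁻¹ = g * (h * u * h⁻¹) * g⁻¹ := by group

namespace Cf

variable (C : Cf G) {g : G}

theorem cent_P {X Y : Subgroup S4} (hx : ∀ x ∈ X, Commute (C.J x 1) g) (hy : ∀ y ∈ Y, Commute (C.J 1 y) g) :
    g ∈ 𝒞(C.P X Y) := fun u hu => by
  obtain ⟨x, hx', y, hy', rfl⟩ := C.mem_P.1 hu
  have := (hx x hx').mul_left (hy y hy')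
  rwa [J_mul, mul_one, one_mul] at this

theorem comm_V1 (h1 : Commute (C.J a0 1) g) (h2 : Commute (C.J z0 1) g) : ∀ x ∈ V, Commute (C.J x 1) g := by
  rintro _ (rfl | rfl | rfl | rfl)
  · rw [J_one]; exact Commute.one_left g
  · exact h2
  · exact h1
  · have := h1.mul_left h2
    rwa [J_mul, mul_one] at this

theorem comm_W2 (h1 : Commute (C.J 1 b0) g) (h2 : Commute (C.J 1 z0) g) : ∀ x ∈ W, Commute (C.J 1 x) g := by
  rintro _ (rfl | rfl | rfl | rfl)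
  · rw [J_one]; exact Commute.one_left g
  · exact h2
  · exact h1
  · have := h1.mul_left h2
    rwa [J_mul, mul_one] at this

theorem comm_Z2 (h2 : Commute (C.J 1 z0) g) : ∀ x ∈ Z, Commute (C.J 1 x) g := by
  rintro _ (rfl | rfl)
  · rw [J_one]; exact Commute.one_left g
  · exact h2

/-- the even elements -/
def Ev : Subgroup G where
  carrier := {g | ∃ x y, sign x = sign y ∧ (g = C.J x y ∨ g = C.J x y * C.t)}
  one_mem' := ⟨1, 1, rfl, Or.inl C.J_one.symm⟩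
  mul_mem' := by
    rintro _ _ ⟨x, y, hx, rfl | rfl⟩ ⟨x', y', hx', rfl | rfl⟩
    · exact ⟨_, _, by rw [map_mul, map_mul, hx, hx'], Or.inl (C.J_mul ..)⟩
    · exact ⟨x * x', y * y', by rw [map_mul, map_mul, hx, hx'], Or.inr (by rw [← mul_assoc, J_mul])⟩
    · exact ⟨_, _, by rw [map_mul, map_mul, hx, hx'], Or.inr (C.Jt_mul ..)⟩
    · exact ⟨_, _, by rw [map_mul, map_mul, hx, hx'], Or.inl (C.Jt_mul_Jt ..)⟩
  inv_mem' := by
    rintro _ ⟨x, y, hx, rfl | rfl⟩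
    · exact ⟨_, _, by rw [map_inv, map_inv, hx], Or.inl (C.J_inv ..)⟩
    · exact ⟨y⁻¹, x⁻¹, by rw [map_inv, map_inv, hx], Or.inr (by rw [mul_inv_rev, t_inv, J_inv, t_J])⟩

theorem t_Ev : C.t ∈ C.Ev := ⟨1, 1, rfl, Or.inr (by rw [J_one, one_mul])⟩

theorem J_Ev {x y : S4} : C.J x y ∈ C.Ev ↔ sign x = sign y :=
  ⟨by
    rintro ⟨x', y', h, e | e⟩
    · obtain ⟨rfl, rfl⟩ := C.J_inj.1 e
      exact h
    · exact absurd e (C.J_ne _ _ _ _), fun h => ⟨x, y, h, Or.inl rfl⟩⟩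

theorem mul_Ev {X : Subgroup S4} : ∀ g ∈ C.Tw X, ∀ h ∈ C.Tw X, g ∉ C.Ev → h ∉ C.Ev → g * h ∈ C.Ev := by
  have key : ∀ a b c d : ℤˣ, a ≠ b → c ≠ d → a * c = b * d ∧ a * d = b * c := by decide
  rintro _ ⟨x, -, y, -, rfl | rfl⟩ _ ⟨x', -, y', -, rfl | rfl⟩ h1 h2 <;>
    simp only [mul_mem_cancel_right C.t_Ev, J_Ev] at h1 h2
  · rw [J_mul, J_Ev, map_mul, map_mul]; exact (key _ _ _ _ h1 h2).1
  · rw [← mul_assoc, mul_mem_cancel_right C.t_Ev, J_mul, J_Ev, map_mul, map_mul]; exact (key _ _ _ _ h1 h2).1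
  · rw [Jt_mul, mul_mem_cancel_right C.t_Ev, J_Ev, map_mul, map_mul]; exact (key _ _ _ _ h1 h2).2
  · rw [Jt_mul_Jt, J_Ev, map_mul, map_mul]; exact (key _ _ _ _ h1 h2).2

theorem isConj_J (p q x y : S4) : IsConj (C.J x y) (C.J (p * x * p⁻¹) (q * y * q⁻¹)) :=
  isConj_iff.2 ⟨_, C.J_conj p q x y⟩

theorem isConj_t (x y : S4) : IsConj (C.J x y) (C.J y x) := isConj_iff.2 ⟨_, C.t_conj x y⟩

theorem isConj_V {v : S4} (hv : v ∈ V) (h1 : v ≠ 1) (y : S4) : IsConj (C.J z0 y) (C.J v y) := by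
  obtain ⟨p, rfl⟩ : ∃ p : S4, v = p * z0 * p⁻¹ := by revert v; decide +kernel
  simpa using C.isConj_J p 1 z0 y

end Cf

namespace Hy

variable {C : Cf G} (h : Hy C) [Finite G]
include h

theorem sylN {X Y : Subgroup S4} (hX : ∀ d ∈ D, ∀ u ∈ X, d * u * d⁻¹ ∈ X) (hY : ∀ d ∈ D, ∀ u ∈ Y, d * u * d⁻¹ ∈ Y)
    (ha : a0 ∈ X) (hY' : Y ≤ W) : IsSylowIn 2 (C.P D D) 𝒩(C.P X Y) := by
  refine h.sylT0 (fun g hg => ?_) fun x _ y hy hn => ?_
  · obtain ⟨x, hx, y, hy, rfl⟩ := C.mem_P.1 hg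
    exact C.mem_norm_P (hX x hx) (hY y hy)
  · have h1 := conj_mem hn (C.J_mem.2 ⟨ha, one_mem _⟩)
    rw [C.Jt_conj, C.J_mem] at h1
    exact (by decide +kernel : ∀ y ∈ D, y * a0 * y⁻¹ ∉ W) y hy (hY' h1.2)

variable (hz : IsCharP 2 (centralizer {C.J z0 z0}))
include hz

theorem cent_U : 𝒞(C.P V Z) ≤ C.P V D := by
  have hS := syl_inf_of_norm (h.sylN (X := V) (Y := Z) (E_conj true) (by decide +kernel) (by decide) (Z_le false))
    (cent_le_norm (C.P V Z)) ((h.sylN (X := V) (Y := Z) (E_conj true) (by decide +kernel) (by decide)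
      (Z_le false)).le.trans (norm_le_norm_cent _))
  have hS' : C.P D D ⊓ 𝒞(C.P V Z) ≤ C.P V D := fun g hg => by
    obtain ⟨x, hx, y, hy, rfl⟩ := C.mem_P.1 hg.1
    have := C.J_comm.1 (hg.2 _ (C.J_mem.2 ⟨(by decide : a0 ∈ V), one_mem _⟩))
    exact C.J_mem.2 ⟨(by decide +kernel : ∀ x ∈ D, a0 * x = x * a0 → x ∈ V) x hx this.1, hy⟩
  have hU : IsPGroup 2 (C.P V Z) := C.isP_le (C.P_le_T (E_le true) ((Z_le true).trans (E_le true)))
  have hXH : 𝒞(C.P V Z) ≤ centralizer {C.J z0 z0} := fun g hg =>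
    mem_centralizer_singleton_iff.2 (hg _ (C.J_mem.2 ⟨by decide, by decide⟩)).symm
  have hUH : C.P V Z ≤ centralizer {C.J z0 z0} :=
    (C.P_le_T (E_le true) ((Z_le true).trans (E_le true))).trans C.T_cent_z
  refine (hS.eq_of_le (isPGroup_of_coprime fun x hx hc => ?_) inf_le_right le_rfl).le.trans hS'
  have hn : 𝒞(C.P V Z) ≤ 𝒩(pCoreOf 2 (centralizer {C.J z0 z0}) ⊓ 𝒞(C.P V Z)) :=
    le_norm_inf (hXH.trans (self_le_norm_core _)) le_normalizer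
  have hR := (hS.le_of_normalized ((core_isP _).to_le inf_le_left) inf_le_right hn).trans hS'
  have hc2 : (orderOf (x * x)).Coprime 2 := by
    rw [← pow_two]; exact Nat.Coprime.coprime_dvd_left (orderOf_pow_dvd 2) hc
  refine eq_one_of_coprime_of_pow (k := 1) hc ?_
  rw [pow_one, pow_two]
  refine hz.eq_one (hXH (mul_mem hx hx)) hc2 (pxq_elt (core_isP _) hU (hUH.trans (self_le_norm_core _)) hc2
    (self_le_norm_core _ (hXH (mul_mem hx hx))) (fun a ha => ?_)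
    (mem_cent_of_coprime hU hc2 (fun r hr => ?_) (mul_mem hx hx)))
  · rw [commutatorElement_eq_one_iff_mul_comm.2 (mul_mem hx hx a ha)]; exact one_mem _
  have hr' := conj_mem (hn hx) hr
  have hr'' := conj_mem (hn hx) hr'
  have fix : ∀ s ∈ C.P V Z, x * s * x⁻¹ = s := fun s hs => conj_eq_of_mem hx hs
  have fix' : ∀ s, x * s * x⁻¹ ∈ C.P V Z → x * s * x⁻¹ = s := fun s hs => cj_cancel (fix _ hs)
  have fsq : ∀ s ∈ C.P V D, x * s * x⁻¹ * (x * s * x⁻¹) = s * s := fun s hs => by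
    obtain ⟨v, hv, d, hd, rfl⟩ := C.mem_P.1 hs
    rw [conj_mul, C.J_mul, fix _ (C.J_mem.2 ⟨mul_mem hv hv, D_sq d hd⟩)]
  have e0 : ⁅r, x * x⁆ = r * (x * (x * r * x⁻¹) * x⁻¹)⁻¹ := by
    simp only [commutatorElement_def, mul_inv_rev, inv_inv, mul_assoc]
  have e1 := fsq r (hR hr)
  have e2 := fsq _ (hR hr')
  have e3 := fsq _ (hR (mul_mem hr hr'))
  rw [← conj_mul] at e3
  by_cases h0 : x * r * x⁻¹ = r
  · rw [e0, h0, h0, mul_inv_cancel]; exact one_mem _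
  have n1 : r ∉ C.P V Z := fun hh => h0 (fix _ hh)
  have n2 : x * r * x⁻¹ ∉ C.P V Z := fun hh => h0 (fix' _ hh)
  have n3 : x * (x * r * x⁻¹) * x⁻¹ ∉ C.P V Z := fun hh => n2 (fix' _ hh ▸ hh)
  rw [e0]
  obtain ⟨v', hv', d', hd', f1⟩ := C.mem_P.1 (hR hr')
  rw [f1] at e1 e2 e3 n2 n3 hr'' ⊢
  obtain ⟨v'', hv'', d'', hd'', f2⟩ := C.mem_P.1 (hR hr'')
  rw [f2] at e2 e3 n3 ⊢
  obtain ⟨v, hv, d, hd, rfl⟩ := C.mem_P.1 (hR hr)
  simp only [C.J_mul, C.J_inv, C.J_inj, C.J_mem] at e1 e2 e3 n1 n2 n3 ⊢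
  refine ⟨mul_mem hv (inv_mem hv''), ?_⟩
  exact (by decide +kernel : ∀ d ∈ D, d ∉ Z → ∀ d' ∈ D, d' ∉ Z → d' * d' = d * d → ∀ d'' ∈ D, d'' ∉ Z →
    d'' * d'' = d' * d' → d' * d'' * (d' * d'') = d * d' * (d * d') → d * d''⁻¹ ∈ Z)
    d hd (fun h => n1 ⟨hv, h⟩) d' hd' (fun h => n2 ⟨hv', h⟩) e1.2 d'' hd'' (fun h => n3 ⟨hv'', h⟩) e2.2 e3.2

theorem mem_VD {g : G} (h1 : Commute (C.J a0 1) g) (h2 : Commute (C.J z0 1) g) (h3 : Commute (C.J 1 z0) g) :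
    g ∈ C.P V D := h.cent_U hz (C.cent_P (C.comm_V1 h1 h2) (C.comm_Z2 h3))

theorem mem_VW {g : G} (h1 : Commute (C.J a0 1) g) (h2 : Commute (C.J z0 1) g) (h3 : Commute (C.J 1 z0) g)
    (h4 : Commute (C.J 1 b0) g) : g ∈ C.P V W := by
  obtain ⟨v, hv, d, hd, rfl⟩ := C.mem_P.1 (h.mem_VD hz h1 h2 h3)
  exact C.J_mem.2 ⟨hv, (by decide +kernel : ∀ d ∈ D, b0 * d = d * b0 → d ∈ W) d hd (C.J_comm.1 h4).2⟩

omit hz in
set_option synthInstance.maxSize 1024 in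
theorem stepA [IsSimpleGroup G] (hG : ¬ IsMulCommutative G) :
    ∃ g ∈ 𝒩(C.P V W), g ∈ 𝒩(C.P W W) ∧ g * C.J z0 1 * g⁻¹ = C.J z0 1 ∧
      (g * C.J 1 b0 * g⁻¹ = C.J 1 z0 ∨ g * C.J 1 b0 * g⁻¹ = C.J z0 z0) := by
  have hF : C.F (true, false) ≤ C.P D W := C.P_mono (E_le true) le_rfl
  have hB : C.F (false, false) ≤ C.P D W := C.P_mono (E_le false) le_rfl
  obtain ⟨g, h1, h2, h3⟩ : ∃ g, g * C.J 1 b0 * g⁻¹ ∈ C.Ev ∧ cj g (C.P D W) ≤ C.Tw D ∧
      cj g (C.F (true, false)) = C.F (true, false) := by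
    obtain ⟨g, h1, h2⟩ := ext_transfer hG h.syl C.mul_Ev (y := C.J 1 b0) (R := C.P D W)
      (by rw [C.J_mul, C.J_eq_one]; decide) (C.isP_le (C.P_le_T le_rfl (E_le false)))
      (C.J_mem.2 ⟨one_mem _, by decide⟩) (fun g hg => by
        obtain ⟨x, -, y, hy, rfl⟩ := C.mem_P.1 hg
        exact mem_centralizer_singleton_iff.2 (C.J_comm.2 ⟨by simp, E_comm false y hy b0 (by decide)⟩))
    obtain ⟨⟨b | b, c | c⟩, hk⟩ := C.cj_F ((cj_mono g hF).trans h2)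
    · exact absurd (C.F_inj (h.wc hk (C.T0_norm _) (C.T_norm false))) (by decide)
    · refine ⟨C.t * g, ?_, ?_, ?_⟩
      · rw [cj_cj]; exact mul_mem (mul_mem C.t_Ev h1) (inv_mem C.t_Ev)
      · rw [cj_mul]; exact cj_le_of_mem h2 (C.t_mem D)
      · rw [cj_mul, hk]; exact C.cj_t _ _
    · exact ⟨g, h1, h2, hk⟩
    · exact absurd (C.F_inj (h.wc hk (C.T0_norm _) (C.T_norm true))) (by decide)
  have h4 : cj g (C.F (false, false)) = C.F (false, false) := by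
    obtain ⟨⟨b | b, c | c⟩, hk⟩ := C.cj_F ((cj_mono g hB).trans h2)
    · exact hk
    · exact absurd (C.F_inj (h.wc (g := g⁻¹) (by rw [← hk, cj_inv_cj]) (C.T0_norm _) (C.T_norm false))) (by decide)
    · exact absurd (C.F_inj (cj_inj.1 (hk.trans h3.symm))) (by decide)
    · exact absurd (C.F_inj (h.wc hk (C.T0_norm _) (C.T_norm true))) (by decide)
  have n1 : g ∈ 𝒩(C.P V W) := cj_eq_iff_mem.1 h3
  have n2 : g ∈ 𝒩(C.P W W) := cj_eq_iff_mem.1 h4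
  have h5 : g * C.J z0 1 * g⁻¹ = C.J z0 1 := by
    obtain ⟨v, hv, w, hw, e1⟩ := C.mem_P.1 (conj_mem n1 (C.J_mem.2 ⟨(by decide : a0 ∈ V), one_mem _⟩))
    obtain ⟨v', hv', w', hw', e2⟩ := C.mem_P.1 (conj_mem n2 (C.J_mem.2 ⟨(by decide : b0 ∈ W), one_mem _⟩))
    have e3 : C.J z0 1 = C.J a0 1 * C.J b0 1 * (C.J a0 1 * C.J b0 1) := by
      rw [C.J_mul, C.J_mul, C.J_inj]; decide
    have e4 : g * C.J z0 1 * g⁻¹ = C.J (v * v' * (v * v')) 1 := by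
      rw [e3, ← conj_mul, ← conj_mul, e1, e2, C.J_mul, C.J_mul, E_sq false _ (mul_mem hw hw')]
    rcases D_sq _ (mul_mem (E_le true hv) (E_le false hv')) with e | e
    · rw [e, C.J_one, conj_eq_one_iff, C.J_eq_one] at e4
      exact absurd e4.1 (by decide)
    · rw [e4, e]
  refine ⟨g, n1, n2, h5, ?_⟩
  obtain ⟨x, hx, y, hy, e⟩ := C.mem_P.1 (conj_mem n1 (C.J_mem.2 ⟨one_mem _, (by decide : b0 ∈ W)⟩))
  have hx' := (C.J_mem.1 (e ▸ conj_mem n2 (C.J_mem.2 ⟨one_mem _, (by decide : b0 ∈ W)⟩))).1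
  rw [e, C.J_Ev] at h1
  have n3 : ¬ (x = 1 ∧ y = 1) := fun hh => by
    rw [hh.1, hh.2, C.J_one, conj_eq_one_iff, C.J_eq_one] at e
    exact absurd e.2 (by decide)
  have n4 : ¬ (x = z0 ∧ y = 1) := fun hh => by
    rw [hh.1, hh.2, ← h5] at e
    exact absurd (C.J_inj.1 (cj_cancel e)).2 (by decide)
  rw [e, C.J_inj, C.J_inj]
  exact (by decide +kernel : ∀ x ∈ V, x ∈ W → ∀ y ∈ W, sign x = sign y → ¬ (x = 1 ∧ y = 1) → ¬ (x = z0 ∧ y = 1) →
    (x = 1 ∧ y = z0) ∨ (x = z0 ∧ y = z0)) x hx hx' y hy h1 n3 n4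

end Hy

end CL.WrS
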