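/-
Groups with a 2-local subgroup `S₄ ≀ Z₂` of odd index, part 3: the normalizer of `V × W`.
-/
import Cfsg.Agent.QT.WrS2

set_option autoImplicit false
set_option linter.unusedSectionVars false
set_option synthInstance.maxSize 2048

namespace CL.WrS

open Subgroup Equiv Equiv.Perm Cfsg CL.Grp CL.Even CL.Inv.Z2S4

variable {G : Type*} [Group G]

theorem isConj_of {g u v : G} (h : g * u * g⁻¹ = v) : IsConj u v := isConj_iff.2 ⟨g, h⟩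

theorem cj_mul_eq {g u v u' v' : G} (h : g * u * g⁻¹ = u') (h' : g * v * g⁻¹ = v') :
    g * (u * v) * g⁻¹ = u' * v' := by rw [← conj_mul, h, h']

/-- the element of order three of the normalizer of the second four-group -/
structure Sg (C : Cf G) (s : G) : Prop where
  a1 : Commute (C.J a0 1) s
  z1 : Commute (C.J z0 1) s
  x1 : Commute (C.J x0 1) s
  b2 : s * C.J 1 b0 * s⁻¹ = C.J 1 z0
  z2 : s * C.J 1 z0 * s⁻¹ = C.J 1 (b0 * z0)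

namespace Cf

variable (C : Cf G)

theorem cj_J {g : G} {x y x' y' u v u' v' : S4} (h : g * C.J x y * g⁻¹ = C.J x' y')
    (h' : g * C.J u v * g⁻¹ = C.J u' v') : g * C.J (x * u) (y * v) * g⁻¹ = C.J (x' * u') (y' * v') := by
  rw [← J_mul, cj_mul_eq h h', J_mul]

theorem cj_JJ {g : G} {x y x' y' : S4} (p q : S4) (h : g * C.J x y * g⁻¹ = C.J x' y') :
    C.J p q * g * C.J x y * (C.J p q * g)⁻¹ = C.J (p * x' * p⁻¹) (q * y' * q⁻¹) := by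
  rw [cj_cj, h, J_conj]

theorem cj_ne {g : G} {x y x' y' p q : S4} (h : g * C.J x y * g⁻¹ = C.J p q) {u v : S4}
    (h' : g * C.J u v * g⁻¹ = C.J x' y') (hne : ¬ (x = u ∧ y = v)) : ¬ (p = x' ∧ q = y') := fun e => by
  rw [e.1, e.2, ← h'] at h
  exact hne (C.J_inj.1 (cj_cancel h))

theorem cj_one' (g : G) : g * C.J 1 1 * g⁻¹ = C.J 1 1 := by rw [J_one]; simp

theorem ty1_V {v : S4} (hv : v ∈ V) (h1 : v ≠ 1) : IsConj (C.J z0 1) (C.J v 1) := C.isConj_V hv h1 1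

theorem ty_a (x : S4) : IsConj (C.J x b0) (C.J x (b0 * z0)) := by
  have := C.isConj_J 1 a0 x b0
  rwa [show a0 * b0 * a0⁻¹ = b0 * z0 by decide, one_mul, inv_one, mul_one] at this

end Cf

namespace Hy

variable {C : Cf G} (h : Hy C) [Finite G]
include h

theorem sq_cent {x : G} (hx : x ∈ 𝒩(C.P V W)) (h4 : x * x * (x * x) ∈ 𝒞(C.P V W)) : x * x ∈ 𝒞(C.P V W) := by
  obtain ⟨k, hk⟩ := exists_pow_coprime (p := 2) x
  obtain ⟨l, hl⟩ := Nat.coprime_two_right.1 hk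
  have h1 : (x ^ (2 * l + 1)) ^ 2 ^ k = 1 := by
    rw [← pow_mul, mul_comm, pow_mul, ← hl, pow_orderOf_eq_one]
  obtain ⟨n, hn, h2⟩ := syl_conj_le (h.sylN (X := V) (Y := W) (E_conj true) (E_conj false) (by decide) le_rfl)
    (isPGroup_zpowers h1) (zpowers_le.2 (pow_mem hx _))
  have h3 := C.P_mono (Z_le true) (Z_le false) (C.sq_T0 (h2 (conj_mem_cj n (mem_zpowers _))))
  rw [conj_mul] at h3
  have h5 := C.F_comm (true, false) (conj_mem' hn h3)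
  have e : n⁻¹ * (n * (x ^ (2 * l + 1) * x ^ (2 * l + 1)) * n⁻¹) * n = (x * x * (x * x)) ^ l * (x * x) := by
    rw [← pow_two x, ← pow_add, ← pow_add, ← pow_mul, ← pow_add, show 2 * l + 1 + (2 * l + 1) = (2 + 2) * l + 2 by ring]
    group
  rw [e] at h5
  exact (mul_mem_cancel_left (pow_mem h4 l)).1 h5

theorem not_five {g : G} (n1 : g ∈ 𝒩(C.P V W)) (n2 : g ∈ 𝒩(C.P W W)) (h1 : g * C.J z0 1 * g⁻¹ = C.J z0 1)
    (h2 : g * C.J 1 b0 * g⁻¹ = C.J z0 z0) : False := by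
  have h3 : g * C.J z0 b0 * g⁻¹ = C.J 1 z0 := by
    have := C.cj_J h1 h2
    rwa [mul_one, one_mul, one_mul, show z0 * z0 = 1 by decide] at this
  have t2 : ∀ v ∈ V, ∀ w ∈ W, (v = 1 ∧ w ∉ Z) ∨ (v ≠ 1 ∧ w = z0) → IsConj (C.J z0 z0) (C.J v w) := by
    rintro v hv w hw (⟨rfl, h4⟩ | ⟨h4, rfl⟩)
    · rcases hw with rfl | rfl | rfl | rfl
      exacts [absurd (one_mem _) h4, absurd (Or.inr rfl) h4, (isConj_of h2).symm,
        (isConj_of h2).symm.trans (C.ty_a 1)]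
    · exact C.isConj_V hv h4 _
  have t1 : ∀ v ∈ V, ∀ w ∈ W, ¬ ((v = 1 ∧ w ∉ Z) ∨ (v ≠ 1 ∧ w = z0)) → ¬ (v = 1 ∧ w = 1) →
      IsConj (C.J z0 1) (C.J v w) := by
    intro v hv w hw h4 h5
    have h6 : IsConj (C.J z0 1) (C.J z0 b0) := (C.isConj_t _ _).trans (isConj_of h3).symm
    by_cases h7 : v = 1
    · subst h7
      rcases hw with rfl | rfl | rfl | rfl
      exacts [absurd ⟨rfl, rfl⟩ h5, C.isConj_t _ _, absurd (Or.inl ⟨rfl, by decide⟩) h4,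
        absurd (Or.inl ⟨rfl, by decide⟩) h4]
    · rcases hw with rfl | rfl | rfl | rfl
      exacts [C.ty1_V hv h7, absurd (Or.inr ⟨h7, rfl⟩) h4, h6.trans (C.isConj_V hv h7 _),
        (h6.trans (C.ty_a _)).trans (C.isConj_V hv h7 _)]
  obtain ⟨p, hp, q, hq, e1⟩ := C.mem_P.1 (conj_mem n1 (C.J_mem.2 ⟨one_mem _, (by decide : z0 ∈ W)⟩))
  have hp' := (C.J_mem.1 (e1 ▸ conj_mem n2 (C.J_mem.2 ⟨one_mem _, (by decide : z0 ∈ W)⟩))).1
  obtain ⟨rfl, e, hev, he⟩ := (by decide +kernel : ∀ p ∈ V, p ∈ W → ∀ q ∈ W,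
      ¬ ((p = 1 ∧ q ∉ Z) ∨ (p ≠ 1 ∧ q = z0)) → ¬ (p = 1 ∧ q = 1) → ¬ (p = z0 ∧ q = 1) → ¬ (p = 1 ∧ q = z0) →
      p = z0 ∧ ∃ e ∈ V, e * q * e⁻¹ = b0) p hp hp' q hq
    (fun hh => h.not_conj (((C.isConj_t _ _).trans (isConj_of e1)).trans (t2 p hp q hq hh).symm))
    (C.cj_ne e1 (C.cj_one' g) (by decide)) (C.cj_ne e1 h1 (by decide)) (C.cj_ne e1 h3 (by decide))
  obtain ⟨r, hr, s, hs, e2⟩ := C.mem_P.1 (conj_mem n1 (C.J_mem.2 ⟨(by decide : a0 ∈ V), (by decide : z0 ∈ W)⟩))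
  have e3 := C.cj_J h2 e1
  have e4 := C.cj_J h1 e1
  obtain ⟨rfl, d, hd, hd'⟩ := (by decide +kernel : ∀ q ∈ W, q ∉ Z → ∀ r ∈ V, ∀ s ∈ W,
      ((r = 1 ∧ s ∉ Z) ∨ (r ≠ 1 ∧ s = z0)) → ¬ (r = z0 ∧ s = z0) → ¬ (r = z0 * z0 ∧ s = z0 * q) →
      ¬ (r = z0 * z0 ∧ s = 1 * q) → s = z0 ∧ ∃ d ∈ W, d * r * d⁻¹ = a0) q hq
    ((by decide +kernel : ∀ e ∈ V, ∀ q : S4, e * q * e⁻¹ = b0 → q ∉ Z) e hev q he) r hr s hs
    (by
      by_contra hh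
      exact h.not_conj ((t1 r hr s hs hh (C.cj_ne e2 (C.cj_one' g) (by decide))).trans
        ((isConj_of e2).symm.trans (C.isConj_V (by decide) (by decide) _).symm)))
    (C.cj_ne e2 h2 (by decide)) (C.cj_ne e2 e3 (by decide)) (C.cj_ne e2 e4 (by decide))
  have hdz : d * z0 * d⁻¹ = z0 := by rw [E_comm false d hd z0 (by decide), mul_inv_cancel_right]
  have hez : e * z0 * e⁻¹ = z0 := by rw [E_comm true e hev z0 (by decide), mul_inv_cancel_right]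
  have n3 : C.J d e * g ∈ 𝒩(C.P V W) :=
    mul_mem (C.T0_norm (true, false) (C.J_mem.2 ⟨E_le false hd, E_le true hev⟩)) n1
  have f1 := C.cj_JJ d e h2
  have f2 := C.cj_JJ d e e1
  have f3 := C.cj_JJ d e e2
  have f4 := C.cj_JJ d e h1
  rw [hdz] at f1 f2 f4
  rw [hez] at f1 f3
  rw [he] at f2
  rw [hd'] at f3
  rw [mul_one, mul_inv_cancel] at f4
  generalize C.J d e * g = k at n3 f1 f2 f3 f4
  have f5 := C.cj_J f1 f2
  have f6 := C.cj_J f4 f2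
  rw [show z0 * z0 = 1 by decide] at f5 f6
  rw [one_mul, show z0 * b0 = b0 * z0 by decide] at f5
  rw [mul_one, one_mul, one_mul] at f6
  have n4 : C.J 1 a0 * k * C.J (swap 1 2) 1 ∈ 𝒩(C.P V W) :=
    mul_mem (mul_mem (C.T0_norm (true, false) (C.J_mem.2 ⟨one_mem _, by decide⟩)) n3)
      (C.mem_norm_P (V_conj _) (by simp))
  have key : ∀ {u v u' v' u'' v'' : S4}, k * C.J u' v' * k⁻¹ = C.J u'' v'' → swap 1 2 * u * (swap 1 2)⁻¹ = u' →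
      v = v' → C.J 1 a0 * k * C.J (swap 1 2) 1 * C.J u v * (C.J 1 a0 * k * C.J (swap 1 2) 1)⁻¹ =
        C.J u'' (a0 * v'' * a0⁻¹) := by
    intro u v u' v' u'' v'' e e' e''
    rw [cj_cj, C.J_conj, e', one_mul, inv_one, mul_one, e'', C.cj_JJ _ _ e, one_mul, inv_one, mul_one]
  have g1 := key (u := 1) f1 (by decide) rfl
  have g2 := key (u := z0) f3 (by decide) rfl
  have g3 := key (u := a0) f6 (by decide) rfl
  have g4 := key (u := 1) f5 (by decide) rfl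
  rw [show a0 * z0 * a0⁻¹ = z0 by decide] at g1 g2
  rw [show a0 * b0 * a0⁻¹ = b0 * z0 by decide] at g3
  rw [show a0 * (b0 * z0) * a0⁻¹ = b0 by decide] at g4
  generalize C.J 1 a0 * k * C.J (swap 1 2) 1 = x at n4 g1 g2 g3 g4
  have c1 : Commute (C.J 1 b0) (x * x * (x * x)) := comm_of_cj (by simp only [cj_cj, g1, g2, g3, g4])
  have c2 : Commute (C.J z0 z0) (x * x * (x * x)) := comm_of_cj (by simp only [cj_cj, g1, g2, g3, g4])
  have c3 : Commute (C.J a0 z0) (x * x * (x * x)) := comm_of_cj (by simp only [cj_cj, g1, g2, g3, g4])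
  have c4 : Commute (C.J 1 (b0 * z0)) (x * x * (x * x)) := comm_of_cj (by simp only [cj_cj, g1, g2, g3, g4])
  have c5 := c1.mul_left c4
  rw [C.J_mul, mul_one, show b0 * (b0 * z0) = z0 by decide] at c5
  have c6 := c2.mul_left c5
  have c7 := c3.mul_left c5
  rw [C.J_mul, mul_one, show z0 * z0 = 1 by decide] at c6 c7
  have c8 := conj_eq_of_mem (h.sq_cent n4 (C.cent_P (C.comm_V1 c7 c6) (C.comm_W2 c1 c5)))
    (C.J_mem.2 ⟨one_mem V, (by decide : b0 ∈ W)⟩)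
  rw [cj_cj, g1, g2, C.J_inj] at c8
  exact absurd c8.1 (by decide)

variable (hz : IsCharP 2 (centralizer {C.J z0 z0}))
include hz

theorem exists_sg {g : G} (n1 : g ∈ 𝒩(C.P V W)) (n2 : g ∈ 𝒩(C.P W W)) (h1 : g * C.J z0 1 * g⁻¹ = C.J z0 1)
    (h2 : g * C.J 1 b0 * g⁻¹ = C.J 1 z0) : ∃ s ∈ 𝒩(C.P W W), Sg C s := by
  have t2 : ∀ v ∈ V, ∀ w ∈ W, v ≠ 1 ∧ w ≠ 1 → IsConj (C.J z0 z0) (C.J v w) := by
    rintro v hv w hw ⟨h4, h5⟩
    have h3 := C.cj_J h1 h2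
    rw [mul_one, one_mul, one_mul] at h3
    refine IsConj.trans ?_ (C.isConj_V hv h4 _)
    rcases hw with rfl | rfl | rfl | rfl
    exacts [absurd rfl h5, IsConj.refl _, (isConj_of h3).symm, (isConj_of h3).symm.trans (C.ty_a _)]
  obtain ⟨p, hp, q, hq, e1⟩ := C.mem_P.1 (conj_mem n1 (C.J_mem.2 ⟨(by decide : a0 ∈ V), one_mem _⟩))
  have e1' := C.cj_J e1 h1
  obtain ⟨rfl, d, hd, hd'⟩ := (by decide +kernel : ∀ p ∈ V, ∀ q ∈ W, ¬ (p ≠ 1 ∧ q ≠ 1) →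
      ¬ (p * z0 ≠ 1 ∧ q * 1 ≠ 1) → ¬ (p = 1 ∧ q = 1) → ¬ (p = z0 ∧ q = 1) → q = 1 ∧ ∃ d ∈ W, d * p * d⁻¹ = a0)
    p hp q hq
    (fun hh => h.not_conj (((C.ty1_V (by decide) (by decide)).trans (isConj_of e1)).trans (t2 p hp q hq hh).symm))
    (fun hh => h.not_conj (((C.ty1_V (v := a0 * z0) (by decide) (by decide)).trans
      (by simpa using isConj_of e1')).trans (t2 _ (mul_mem hp (by decide)) _ (mul_mem hq (one_mem _)) hh).symm))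
    (C.cj_ne e1 (C.cj_one' g) (by decide)) (C.cj_ne e1 h1 (by decide))
  obtain ⟨p', hp', q', hq', e2⟩ := C.mem_P.1 (conj_mem n1 (C.J_mem.2 ⟨one_mem _, (by decide : z0 ∈ W)⟩))
  have hp'' := (C.J_mem.1 (e2 ▸ conj_mem n2 (C.J_mem.2 ⟨one_mem _, (by decide : z0 ∈ W)⟩))).1
  obtain ⟨rfl, e, he, he'⟩ := (by decide +kernel : ∀ p ∈ V, p ∈ W → ∀ q ∈ W, ¬ (p ≠ 1 ∧ q ≠ 1) →
      ¬ (p = 1 ∧ q = 1) → ¬ (p = z0 ∧ q = 1) → ¬ (p = 1 ∧ q = z0) → p = 1 ∧ ∃ e ∈ V, e * q * e⁻¹ = b0 * z0)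
    p' hp' hp'' q' hq'
    (fun hh => h.not_conj (((C.isConj_t _ _).trans (isConj_of e2)).trans (t2 p' hp' q' hq' hh).symm))
    (C.cj_ne e2 (C.cj_one' g) (by decide)) (C.cj_ne e2 h1 (by decide)) (C.cj_ne e2 h2 (by decide))
  have hdz : d * z0 * d⁻¹ = z0 := by rw [E_comm false d hd z0 (by decide), mul_inv_cancel_right]
  have hez : e * z0 * e⁻¹ = z0 := by rw [E_comm true e he z0 (by decide), mul_inv_cancel_right]
  have n3 : C.J d e * g ∈ 𝒩(C.P W W) :=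
    mul_mem (C.T0_norm (false, false) (C.J_mem.2 ⟨E_le false hd, E_le true he⟩)) n2
  have f1 := C.cj_JJ d e e1
  have f2 := C.cj_JJ d e h1
  have f3 := C.cj_JJ d e h2
  have f4 := C.cj_JJ d e e2
  simp only [mul_one, mul_inv_cancel, hdz, hez, hd', he'] at f1 f2 f3 f4
  generalize C.J d e * g = k at n3 f1 f2 f3 f4
  have f5 := C.cj_J f3 f4
  rw [mul_one, show z0 * (b0 * z0) = b0 by decide] at f5
  have c1 := C.comm_V1 (comm_of_cj f1) (comm_of_cj f2)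
  have cV : ∀ v ∈ V, Commute (C.J v 1) (k * C.J x0 1 * k⁻¹ * (C.J x0 1)⁻¹) := fun v hv => comm_of_cj (by
    have a1 : (C.J x0 1)⁻¹ * C.J v 1 * (C.J x0 1)⁻¹⁻¹ = C.J (x0⁻¹ * v * x0⁻¹⁻¹) 1 := by
      rw [C.J_inv, C.J_conj]; simp
    have a2 : C.J x0 1 * C.J (x0⁻¹ * v * x0⁻¹⁻¹) 1 * (C.J x0 1)⁻¹ = C.J v 1 := by
      rw [C.J_conj]; congr 1 <;> group
    rw [cj_cj, cj_cj, cj_cj, a1, cj_of_comm (c1 _ (V_conj _ _ hv)).inv_right, a2, cj_of_comm (c1 _ hv)])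
  have cW : ∀ {w w' : S4}, k * C.J 1 w' * k⁻¹ = C.J 1 w → Commute (C.J 1 w) (k * C.J x0 1 * k⁻¹ * (C.J x0 1)⁻¹) :=
    fun {w w'} e => comm_of_cj (by
      have a1 : ∀ w, Commute (C.J 1 w) (C.J x0 1) := fun w => C.J_comm.2 ⟨by simp, by simp⟩
      have a2 : k⁻¹ * C.J 1 w * k⁻¹⁻¹ = C.J 1 w' := by rw [← e]; group
      rw [cj_cj, cj_cj, cj_cj, cj_of_comm (a1 w).inv_right, a2, cj_of_comm (a1 w'), e])
  obtain ⟨v, hv, w, hw, e3⟩ := C.mem_P.1 (h.mem_VW hz (cV _ (by decide)) (cV _ (by decide)) (cW f3) (cW f5))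
  rw [mul_inv_eq_iff_eq_mul, C.J_mul, mul_one] at e3
  have e4 := C.cj_J (C.cj_J e3 e3) e3
  rw [show x0 * x0 * x0 = 1 by decide, mul_one, mul_one, C.cj_one', C.J_inj, E_sq false w hw, one_mul] at e4
  obtain ⟨u, hu, hu'⟩ := (by decide +kernel : ∀ v ∈ V, ∃ u ∈ V, u * (v * x0) * u⁻¹ = x0) v hv
  have hua : u * a0 * u⁻¹ = a0 := by rw [E_comm true u hu a0 (by decide), mul_inv_cancel_right]
  have huz : u * z0 * u⁻¹ = z0 := by rw [E_comm true u hu z0 (by decide), mul_inv_cancel_right]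
  refine ⟨C.J u 1 * k, mul_mem (C.T0_norm (false, false) (C.J_mem.2 ⟨E_le true hu, one_mem _⟩)) n3,
    comm_of_cj ?_, comm_of_cj ?_, comm_of_cj ?_, ?_, ?_⟩
  · rw [C.cj_JJ _ _ f1, hua]; simp
  · rw [C.cj_JJ _ _ f2, huz]; simp
  · rw [C.cj_JJ _ _ e3, hu', ← e4.2]; simp
  · rw [C.cj_JJ _ _ f3]; simp
  · rw [C.cj_JJ _ _ f4]; simp

theorem sg_b {s : G} (n : s ∈ 𝒩(C.P W W)) (hs : Sg C s) :
    s * C.J b0 1 * s⁻¹ = C.J b0 1 ∨ s * C.J b0 1 * s⁻¹ = C.J b0 b0 := by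
  obtain ⟨p, hp, q, hq, e1⟩ := C.mem_P.1 (conj_mem n (C.J_mem.2 ⟨(by decide : b0 ∈ W), one_mem _⟩))
  have f0 := cj_of_comm hs.x1
  have e2 := C.cj_J (C.cj_J e1 f0) e1
  have e3 := C.cj_J f0 f0
  rw [show b0 * x0 * b0 = x0 * x0 by decide, mul_one] at e2
  rw [e3, C.J_inj] at e2
  obtain rfl := (by decide +kernel : ∀ p ∈ W, x0 * x0 = p * x0 * p → p = b0) p hp e2.1
  have g1 := C.cj_JJ 1 a0 (cj_of_comm hs.a1)
  have g2 := C.cj_JJ 1 a0 (cj_of_comm hs.z1)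
  have g3 := C.cj_JJ 1 a0 f0
  have g4 := C.cj_JJ 1 a0 hs.b2
  have g5 := C.cj_JJ 1 a0 hs.z2
  have g6 := C.cj_JJ 1 a0 e1
  rw [show a0 * z0 * a0⁻¹ = z0 by decide] at g4
  rw [show a0 * (b0 * z0) * a0⁻¹ = b0 by decide] at g5
  simp only [mul_one, one_mul, inv_one, mul_inv_cancel] at g1 g2 g3 g4 g5 g6
  generalize C.J 1 a0 * s = x at g1 g2 g3 g4 g5 g6
  obtain ⟨v, hv, w, hw, e4⟩ := C.mem_P.1 (h.mem_VW hz (g := x * x) (comm_of_cj (by rw [cj_cj, g1, g1]))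
    (comm_of_cj (by rw [cj_cj, g2, g2])) (comm_of_cj (by rw [cj_cj, g5, g4])) (comm_of_cj (by rw [cj_cj, g4, g5])))
  have e5 : x * x * C.J x0 1 * (x * x)⁻¹ = C.J x0 1 := by rw [cj_cj, g3, g3]
  rw [e4, C.J_conj, C.J_inj] at e5
  obtain rfl := (by decide +kernel : ∀ v ∈ V, v * x0 * v⁻¹ = x0 → v = 1) v hv e5.1
  have e6 : x * C.J b0 (a0 * q * a0⁻¹) * x⁻¹ = C.J b0 1 := by
    rw [← g6, ← cj_cj, e4, C.J_conj]; simp
  rcases hq with rfl | rfl | rfl | rfl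
  · exact Or.inl e1
  · have e7 := C.cj_J g6 g5
    rw [show a0 * z0 * a0⁻¹ = z0 by decide] at e6 e7
    rw [mul_one, one_mul, e6, C.J_inj] at e7
    exact absurd e7.2 (by decide)
  · exact Or.inr e1
  · have e7 := C.cj_J g6 g4
    rw [show a0 * (b0 * z0) * a0⁻¹ = b0 by decide] at e6 e7
    rw [mul_one, one_mul, e6, C.J_inj] at e7
    exact absurd e7.2 (by decide)

end Hy

end CL.WrS
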