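/-
Groups with a 2-local subgroup `S₄ ≀ Z₂` of odd index, part 4: no quasithin simple group of even
characteristic has a maximal 2-local subgroup `S₄ ≀ Z₂` of odd index.
-/
import Cfsg.Agent.QT.WrS3
import Cfsg.Agent.Loc.KConn
import Cfsg.Agent.Cls.SmallIso
import Cfsg.Prelude.Def_QuasithinSetup

set_option autoImplicit false
set_option linter.unusedSectionVars false
set_option synthInstance.maxSize 2048

namespace CL.WrS

open Subgroup Equiv Equiv.Perm Cfsg CL.Grp CL.Even CL.Inv.Z2S4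
open scoped commutatorElement Pointwise

variable {G : Type*} [Group G]

theorem Hy.stepB {C : Cf G} (h : Hy C) [Finite G] [IsSimpleGroup G] (hG : ¬ IsMulCommutative G) {s : G}
    (hs : Sg C s) (hb : s * C.J b0 1 * s⁻¹ = C.J b0 1) : False := by
  have cD : ∀ x ∈ D, s * C.J x 1 * s⁻¹ = C.J x 1 := fun x hx => by
    rcases (by decide +kernel : ∀ x ∈ D, x ∈ V ∨ x * b0 ∈ V) x hx with h1 | h1
    · exact cj_of_comm (C.comm_V1 hs.a1 hs.z1 x h1)
    · have := C.cj_J (cj_of_comm (C.comm_V1 hs.a1 hs.z1 _ h1)) hb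
      rwa [mul_assoc x, show b0 * b0 = 1 by decide, mul_one, mul_one] at this
  have b1 : ∀ x ∈ D, ∀ y ∈ D, y * y = 1 → y ≠ 1 → IsConj (C.J x z0) (C.J x y) := fun x hx y hy h1 h2 => by
    have h3 := C.cj_J (cD x hx) hs.b2
    rw [mul_one, one_mul, one_mul] at h3
    rcases (by decide +kernel : ∀ y ∈ D, y * y = 1 → y ∈ V ∨ y = b0 ∨ y = b0 * z0) y hy h1 with h4 | rfl | rfl
    · exact ((C.isConj_t _ _).trans (C.isConj_V h4 h2 x)).trans (C.isConj_t _ _)
    · exact (isConj_of h3).symm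
    · exact (isConj_of h3).symm.trans (C.ty_a x)
  have hz0 : z0 ∈ D := by decide
  have t2 : ∀ x ∈ D, ∀ y ∈ D, x * x = 1 → y * y = 1 → x ≠ 1 → y ≠ 1 → IsConj (C.J z0 z0) (C.J x y) :=
    fun x hx y hy h1 h2 h3 h4 => ((b1 z0 hz0 x hx h1 h3).trans (C.isConj_t _ _)).trans (b1 x hx y hy h2 h4)
  have t1 : ∀ y ∈ D, y * y = 1 → y ≠ 1 → IsConj (C.J z0 1) (C.J 1 y) ∧ IsConj (C.J z0 1) (C.J y 1) :=
    fun y hy h1 h2 =>
      have := (C.isConj_t _ _).trans (b1 1 (one_mem _) y hy h1 h2)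
      ⟨this, this.trans (C.isConj_t _ _)⟩
  have n2 : ∀ x ∈ D, ∀ y ∈ D, x * x = 1 → y * y = 1 → IsConj (C.J z0 z0) (C.J x y) → x ≠ 1 ∧ y ≠ 1 := by
    intro x hx y hy h1 h2 h3
    have h4 : ¬ (x = 1 ∧ y = 1) := fun e => by
      rw [e.1, e.2, C.J_one, isConj_one_left, C.J_eq_one] at h3
      exact absurd h3.1 (by decide)
    constructor
    · rintro rfl
      exact h.not_conj ((t1 y hy h2 fun e => h4 ⟨rfl, e⟩).1.trans h3.symm)
    · rintro rfl
      exact h.not_conj ((t1 x hx h1 fun e => h4 ⟨e, rfl⟩).2.trans h3.symm)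
  have ht : ∀ y : S4, y * y = 1 → IsConj C.t (C.J y y * C.t) := fun y hy => isConj_of (g := C.J y 1) (by
    rw [C.J_inv, C.Jt_mul, inv_eq_of_mul_eq_one_right hy]; simp)
  have hR : ∀ y ∈ D, C.J y y ∈ C.Tw D ⊓ centralizer {C.t} := fun y hy =>
    ⟨C.J_mem_Tw.2 ⟨hy, hy⟩, mem_centralizer_singleton_iff.2 (C.t_J y y).symm⟩
  have hRp : IsPGroup 2 (C.Tw D ⊓ centralizer {C.t} : Subgroup G) := C.isP_le inf_le_left
  have hRc : ∀ {g u : G}, g * C.t * g⁻¹ = u → cj g (C.Tw D ⊓ centralizer {C.t}) ≤ centralizer {u} := by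
    rintro g _ rfl _ ⟨r, hr, rfl⟩
    rw [mem_centralizer_singleton_iff]
    change g * r * g⁻¹ * _ = _ * (g * r * g⁻¹)
    rw [conj_mul, conj_mul, mem_centralizer_singleton_iff.1 hr.2]
  have sq : ∀ {k : G} {y p q : S4}, y * y = 1 → k * C.J y y * k⁻¹ = C.J p q → p * p = 1 ∧ q * q = 1 := by
    intro k y p q hy e
    have := C.cj_J e e
    rw [hy, C.cj_one', C.J_inj] at this
    exact ⟨this.1.symm, this.2.symm⟩
  obtain ⟨g, hg, -⟩ := ext_transfer hG h.syl (fun x hx y hy => C.mul_mem_P hx hy) C.tt hRp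
    ⟨C.t_mem D, mem_centralizer_singleton_iff.2 rfl⟩ inf_le_right
  obtain ⟨p, hp, q, hq, e⟩ := C.mem_P.1 hg
  have e1 : p * p = 1 ∧ q * q = 1 := by rw [← C.J_eq_one, ← C.J_mul, ← e, conj_mul, C.tt]; simp
  have hty : IsConj C.t (C.J z0 1) ∨ IsConj C.t (C.J z0 z0) := by
    by_cases h1 : p = 1
    · refine Or.inl ((isConj_of e).trans (h1 ▸ (t1 q hq e1.2 fun h2 => ?_).1.symm))
      rw [h1, h2, C.J_one, conj_eq_one_iff] at e
      exact C.tn 1 ((map_one _).trans e.symm)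
    by_cases h2 : q = 1
    · exact Or.inl ((isConj_of e).trans (h2 ▸ (t1 p hp e1.1 h1).2.symm))
    · exact Or.inr ((isConj_of e).trans (t2 p hp q hq e1.1 e1.2 h1 h2).symm)
  clear e e1 hp hq hg
  rcases hty with h1 | h1
  · obtain ⟨g, hg⟩ := isConj_iff.1 h1
    obtain ⟨n, hn, h2⟩ := syl_conj_le (h.sylT0 (C.T0_cent (Or.inr rfl) (one_mem _)) fun x _ y hy hh => by
      have := cj_of_comm (mem_centralizer_singleton_iff.1 hh).symm
      rw [C.Jt_conj, C.J_inj] at this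
      exact absurd this.1 (by simp only [mul_one, mul_inv_cancel]; decide)) (isPGroup_cj hRp g) (hRc hg)
    rw [← cj_mul] at h2
    have hk : n * g * C.t * (n * g)⁻¹ = C.J z0 1 := by
      rw [cj_cj, hg, cj_of_comm (mem_centralizer_singleton_iff.1 hn).symm]
    generalize n * g = k at h2 hk
    have key : ∀ y ∈ D, y * y = 1 → y ≠ 1 → ∃ q, k * C.J y y * k⁻¹ = C.J z0 q := fun y hy h3 h4 => by
      obtain ⟨p, hp, q, hq, e⟩ := C.mem_P.1 (h2 (conj_mem_cj k (hR y hy)))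
      obtain ⟨h5, h6⟩ := sq h3 e
      have h7 := n2 p hp q hq h5 h6 ((t2 y hy y hy h3 h3 h4 h4).trans (isConj_of e))
      have h8 := cj_mul_eq e hk
      rw [C.J_mul, mul_one] at h8
      refine ⟨q, e.trans (congrArg (C.J · q) ?_)⟩
      by_contra h9
      refine h.not_conj (((h1.symm.trans (ht y h3)).trans (isConj_of h8)).trans
        (t2 _ (mul_mem hp hz0) q hq ?_ h6 ?_ h7.2).symm)
      · rw [mul_assoc, ← mul_assoc z0, ← mem_D.1 hp, mul_assoc, show z0 * z0 = 1 by decide, mul_one, h5]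
      · exact fun e => h9 ((eq_inv_of_mul_eq_one_left e).trans (by decide))
    obtain ⟨q1, f1⟩ := key a0 (by decide) (by decide) (by decide)
    obtain ⟨q2, f2⟩ := key z0 (by decide) (by decide) (by decide)
    obtain ⟨q3, f3⟩ := key (a0 * z0) (by decide) (by decide) (by decide)
    rw [C.cj_J f1 f2, C.J_inj] at f3
    exact absurd f3.1 (by decide)
  · obtain ⟨g, hg⟩ := isConj_iff.1 h1
    obtain ⟨n, hn, h2⟩ := syl_conj_le (h.sylT C.T_cent_z) (isPGroup_cj hRp g) (hRc hg)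
    rw [← cj_mul] at h2
    have hk : n * g * C.t * (n * g)⁻¹ = C.J z0 z0 := by
      rw [cj_cj, hg, cj_of_comm (mem_centralizer_singleton_iff.1 hn).symm]
    generalize n * g = k at h2 hk
    have key : ∀ y ∈ D, y * y = 1 → y ≠ 1 → ∀ p ∈ D, ∀ q ∈ D, k * C.J y y * k⁻¹ = C.J p q →
        p * p = 1 ∧ p ≠ 1 ∧ p * z0 ≠ 1 := fun y hy h3 h4 p hp q hq e => by
      obtain ⟨h5, h6⟩ := sq h3 e
      have h8 := cj_mul_eq e hk
      rw [C.J_mul] at h8
      have h9 : ∀ p ∈ D, p * p = 1 → p * z0 * (p * z0) = 1 := by decide +kernel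
      exact ⟨h5, (n2 p hp q hq h5 h6 ((t2 y hy y hy h3 h3 h4 h4).trans (isConj_of e))).1,
        (n2 _ (mul_mem hp hz0) _ (mul_mem hq hz0) (h9 p hp h5) (h9 q hq h6)
          ((h1.symm.trans (ht y h3)).trans (isConj_of h8))).1⟩
    have hT : ∀ y ∈ D, k * C.J y y * k⁻¹ ∈ C.Tw D := fun y hy => h2 (conj_mem_cj k (hR y hy))
    have e0 : k * C.J z0 z0 * k⁻¹ = k * C.J a0 a0 * k⁻¹ * (k * C.J b0 b0 * k⁻¹) *
        (k * C.J a0 a0 * k⁻¹ * (k * C.J b0 b0 * k⁻¹)) := by
      rw [conj_mul, conj_mul, C.J_mul, C.J_mul, show a0 * b0 * (a0 * b0) = z0 by decide]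
    have hab := mul_mem (hT a0 (by decide)) (hT b0 (by decide))
    obtain ⟨p2, hp2, q2, hq2, f2⟩ := C.mem_P.1 (e0 ▸ C.sq_mem_P hab)
    have k2 := key z0 hz0 (by decide) (by decide) p2 hp2 q2 hq2 f2
    have out : ∀ c ∈ D, c * c = 1 → c ≠ 1 → c * z0 * (c * z0) = 1 → c * z0 ≠ 1 → k * C.J c c * k⁻¹ ∉ C.P D D := by
      intro c hc c1 c2 c3 c4 hh
      obtain ⟨p3, hp3, q3, hq3, f3⟩ := C.mem_P.1 hh
      have k3 := key c hc c1 c2 p3 hp3 q3 hq3 f3
      have k4 := key _ (mul_mem hc hz0) c3 c4 _ (mul_mem hp3 hp2) _ (mul_mem hq3 hq2) (C.cj_J f3 f2)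
      exact (by decide +kernel : ∀ p ∈ D, p * p = 1 ∧ p ≠ 1 ∧ p * z0 ≠ 1 → ∀ r ∈ D, r * r = 1 ∧ r ≠ 1 ∧ r * z0 ≠ 1 →
        ¬ (r * p * (r * p) = 1 ∧ r * p ≠ 1 ∧ r * p * z0 ≠ 1)) p2 hp2 k2 p3 hp3 k3 k4
    have h3 := C.sq_T0 (C.mul_mem_P (hT a0 (by decide)) (hT b0 (by decide))
      (out a0 (by decide) (by decide) (by decide) (by decide) (by decide))
      (out b0 (by decide) (by decide) (by decide) (by decide) (by decide)))
    rw [← e0, f2, C.J_mem] at h3
    rcases h3.1 with rfl | rfl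
    exacts [k2.2.1 rfl, k2.2.2 (by decide)]

namespace Cf

variable (C : Cf G)

/-- the centralizer of the first `A₄` -/
def K : Subgroup G := centralizer {C.J a0 1, C.J z0 1, C.J x0 1}

theorem mem_K {g : G} : g ∈ C.K ↔ Commute (C.J a0 1) g ∧ Commute (C.J z0 1) g ∧ Commute (C.J x0 1) g := by
  simp only [K, mem_centralizer_iff, Set.mem_insert_iff, Set.mem_singleton_iff, forall_eq_or_imp, forall_eq]
  rfl

theorem J_mem_K (y : S4) : C.J 1 y ∈ C.K := C.mem_K.2
  ⟨C.J_comm.2 ⟨by simp, by simp⟩, C.J_comm.2 ⟨by simp, by simp⟩, C.J_comm.2 ⟨by simp, by simp⟩⟩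

/-- the second `S₄` -/
def kap : S4 →* C.K := (C.j.comp (MonoidHom.inr S4 S4)).codRestrict _ C.J_mem_K

theorem coe_kap (y : S4) : (C.kap y : G) = C.J 1 y := rfl

theorem kap_inj : Function.Injective C.kap := fun _ _ e => (C.J_inj.1 (congrArg Subtype.val e)).2

theorem bb : C.J b0 1 * C.J b0 1 = 1 := by rw [J_mul, J_eq_one]; decide

theorem b_conj {g : G} (hg : g ∈ C.K) : C.J b0 1 * g * C.J b0 1 ∈ C.K := by
  obtain ⟨h1, h2, h3⟩ := C.mem_K.1 hg
  have key : ∀ x : S4, Commute (C.J (b0 * x * b0) 1) g → Commute (C.J x 1) (C.J b0 1 * g * C.J b0 1) := fun x hx => by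
    have e : C.J (b0 * x * b0) 1 = C.J b0 1 * C.J x 1 * C.J b0 1 := by rw [J_mul, J_mul]; simp
    have hi : (C.J b0 1)⁻¹ = C.J b0 1 := inv_eq_of_mul_eq_one_right C.bb
    refine comm_of_cj ?_
    calc _ = C.J b0 1 * (g * (C.J b0 1 * C.J x 1 * (C.J b0 1)⁻¹) * g⁻¹) * (C.J b0 1)⁻¹ := by group
      _ = _ := by rw [hi, ← e, cj_of_comm hx, e, ← mul_assoc, ← mul_assoc, C.bb, one_mul, mul_assoc, C.bb, mul_one]
  refine C.mem_K.2 ⟨key _ (C.comm_V1 h1 h2 _ (by decide)), key _ (C.comm_V1 h1 h2 _ (by decide)), key _ ?_⟩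
  have := h3.mul_left h3
  rwa [J_mul, mul_one, ← show b0 * x0 * b0 = x0 * x0 by decide] at this

theorem b_notMem : C.J b0 1 ∉ C.K := fun h => absurd (C.J_comm.1 (C.mem_K.1 h).1).1 (by decide)

/-- the extension of `K` by the first transposition -/
def Y : Subgroup G where
  carrier := {g | g ∈ C.K ∨ g * C.J b0 1 ∈ C.K}
  one_mem' := Or.inl (one_mem _)
  mul_mem' := by
    rintro g h (hg | hg) (hh | hh)
    · exact Or.inl (mul_mem hg hh)
    · exact Or.inr (by rw [mul_assoc]; exact mul_mem hg hh)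
    · refine Or.inr ?_
      have := mul_mem hg (C.b_conj hh)
      rwa [← mul_assoc, ← mul_assoc, mul_assoc g, C.bb, mul_one] at this
    · refine Or.inl ?_
      have := mul_mem hg (C.b_conj hh)
      rwa [← mul_assoc, ← mul_assoc, mul_assoc g, C.bb, mul_one, ← mul_assoc, mul_assoc (g * h), C.bb, mul_one] at this
  inv_mem' := by
    rintro g (hg | hg)
    · exact Or.inl (inv_mem hg)
    · refine Or.inr ?_
      have := C.b_conj (inv_mem hg)
      rwa [mul_inv_rev, ← mul_assoc, mul_inv_cancel, one_mul] at this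

/-- the first transposition -/
def phi : Multiplicative (ZMod 2) →* S4 := MonoidHom.mk' (fun x => if x = 1 then 1 else b0) (by decide)

theorem psi_mem (m : M) : C.j (phi.prodMap (MonoidHom.id S4) m) ∈ C.Y := by
  change C.J (if m.1 = 1 then 1 else b0) m.2 ∈ _
  split_ifs
  · exact Or.inl (C.J_mem_K _)
  · refine Or.inr ?_
    rw [J_mul, show b0 * b0 = 1 by decide]
    exact C.J_mem_K _

/-- the embedding of `Z₂ × S₄` -/
def psi : M →* C.Y := (C.j.comp (phi.prodMap (MonoidHom.id S4))).codRestrict _ C.psi_mem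

theorem coe_psi (m : M) : (C.psi m : G) = C.J (phi m.1) m.2 := rfl

theorem card_Y [Finite G] : Nat.card C.Y = Nat.card C.K * 2 := by
  have h1 : C.K.relIndex C.Y = 2 := relIndex_eq_two_iff.2 ⟨C.J b0 1, Or.inr (by rw [C.bb]; exact one_mem _),
    fun g hg => by
      rcases hg with hg | hg
      · exact Or.inr ⟨hg, fun h => C.b_notMem ((mul_mem_cancel_left hg).1 h)⟩
      · exact Or.inl ⟨hg, fun h => C.b_notMem ((mul_mem_cancel_left h).1 hg)⟩⟩
  have h2 := (C.K.subgroupOf C.Y).card_mul_index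
  rw [← card_map_subtype, subgroupOf_map_subtype, inf_eq_left.2 (fun g hg => Or.inl hg : C.K ≤ C.Y)] at h2
  rw [← h2, ← h1, relIndex]

end Cf

namespace Hy

variable {C : Cf G} (h : Hy C) [Finite G] (hz : IsCharP 2 (centralizer {C.J z0 z0}))
include h hz

theorem cent_K {g : G} (hg : g ∈ C.K) (hc : Commute (C.J 1 z0) g) : ∃ d ∈ D, g = C.J 1 d := by
  obtain ⟨h1, h2, h3⟩ := C.mem_K.1 hg
  obtain ⟨v, hv, d, hd, rfl⟩ := C.mem_P.1 (h.mem_VD hz h1 h2 hc)
  exact ⟨d, hd, by rw [(by decide +kernel : ∀ v ∈ V, x0 * v = v * x0 → v = 1) v hv (C.J_comm.1 h3).1]⟩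

theorem cent_kap : centralizer {C.kap z0} = D.map C.kap := by
  refine le_antisymm (fun g hg => ?_) ?_
  · obtain ⟨d, hd, e⟩ := h.cent_K hz g.2 (congrArg Subtype.val (mem_centralizer_singleton_iff.1 hg)).symm
    exact ⟨d, hd, Subtype.ext e.symm⟩
  · rintro _ ⟨d, hd, rfl⟩
    rw [mem_centralizer_singleton_iff, ← map_mul, ← map_mul, mem_D.1 hd]

theorem psl {s : G} (hs : Sg C s) : ∃ (F : Type) (_ : Field F) (_ : Fintype F),
    (Fintype.card F = 7 ∨ Fintype.card F = 9) ∧ Nonempty (C.K ≃* Matrix.ProjectiveSpecialLinearGroup (Fin 2) F) := by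
  obtain ⟨e0⟩ := f_dih
  have e : centralizer {C.kap z0} ≃* DihedralGroup 4 :=
    ((MulEquiv.subgroupCongr (h.cent_kap hz)).trans (equivMapOfInjective D _ C.kap_inj).symm).trans e0
  have hz1 : C.kap z0 ≠ 1 := fun e => absurd (C.kap_inj (e.trans (map_one _).symm)) (by decide)
  refine CL.Inv.FI.d8_psl (fun H hH => ?_)
    (orderOf_eq_prime (by rw [← map_pow, show z0 ^ 2 = 1 by decide, map_one]) hz1) e
  obtain ⟨S, hS⟩ := CL.Inv.FI.d8_sylow e hz1
  have hn := normal_of_index_eq_two hH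
  have h1 : C.kap z0 ∈ H := by
    rw [← show a0 * b0 * (a0 * b0) = z0 by decide, map_mul]; exact mul_self_mem_of_index_two hH _
  have h2 : ∀ v ∈ V, C.kap v ∈ H := fun v hv => by
    rcases (by decide +kernel : ∀ v ∈ V, v = 1 ∨ ∃ p : S4, v = p * z0 * p⁻¹) v hv with rfl | ⟨p, rfl⟩
    · rw [map_one]; exact one_mem _
    · rw [map_mul, map_mul, map_inv]; exact hn.conj_mem _ h1 _
  have h3 : C.kap b0 ∈ H := by
    have := hn.conj_mem _ h1 (⟨s, C.mem_K.2 ⟨hs.a1, hs.z1, hs.x1⟩⟩ : C.K)⁻¹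
    convert this using 1
    apply Subtype.ext
    change C.J 1 b0 = s⁻¹ * C.J 1 z0 * s⁻¹⁻¹
    rw [← hs.b2]; group
  have h4 : (S : Subgroup C.K) ≤ H := by
    rw [hS, h.cent_kap hz]
    rintro _ ⟨d, hd, rfl⟩
    rcases (by decide +kernel : ∀ x ∈ D, x ∈ V ∨ x * b0 ∈ V) d hd with h5 | h5
    · exact h2 d h5
    · have := h2 _ h5
      rwa [map_mul, mul_mem_cancel_right h3] at this
  have h5 := index_dvd_of_le h4
  rw [hH] at h5
  exact S.not_dvd_index h5

theorem not_168 {s : G} (hs : Sg C s) (hb : s * C.J b0 1 * s⁻¹ = C.J b0 b0) : Nat.card C.K ≠ 168 := fun hK => by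
  have hY : Nat.card C.Y = 336 := by rw [C.card_Y, hK]
  have hinj : Function.Injective C.psi := fun m n e => by
    obtain ⟨e1, e2⟩ := C.J_inj.1 (congrArg Subtype.val e)
    exact Prod.ext ((by decide : ∀ x y, Cf.phi x = Cf.phi y → x = y) _ _ e1) e2
  have h48 : Nat.card C.psi.range = 48 := by
    rw [← f_cardM]; exact (Nat.card_congr (MonoidHom.ofInjective hinj).toEquiv).symm
  have hcb : ∀ g ∈ C.K, Commute (C.J b0 1) g → ∃ y, g = C.J 1 y := by
    have h1 : C.P ⊥ ⊤ ≤ C.K ⊓ centralizer {C.J b0 1} := fun g hg => by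
      obtain ⟨x, hx, y, -, rfl⟩ := C.mem_P.1 hg
      rw [mem_bot.1 hx]
      exact ⟨C.J_mem_K y, mem_centralizer_singleton_iff.2 (C.J_comm.2 ⟨by simp, by simp⟩)⟩
    have h2 : Nat.card (C.P ⊥ ⊤) = 24 := by
      rw [C.card_P, card_bot, card_top, Nat.card_eq_fintype_card]; rfl
    obtain ⟨m, hm⟩ := card_dvd_of_le h1
    have h3 := card_dvd_of_le (inf_le_left : C.K ⊓ centralizer {C.J b0 1} ≤ C.K)
    rw [hm, h2, hK, show 168 = 24 * 7 from rfl, Nat.mul_dvd_mul_iff_left (by norm_num)] at h3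
    rcases (Nat.dvd_prime (by norm_num)).1 h3 with rfl | rfl
    · intro g hg hc
      obtain ⟨x, hx, y, -, e⟩ := C.mem_P.1 ((eq_of_le_of_card_ge h1 (by omega)).ge
        ⟨hg, mem_centralizer_singleton_iff.2 hc.eq.symm⟩)
      exact ⟨y, by rw [e, mem_bot.1 hx]⟩
    · have h4 := (eq_of_le_of_card_ge (inf_le_left : C.K ⊓ centralizer {C.J b0 1} ≤ C.K) (by omega)).ge
        (C.mem_K.2 ⟨hs.a1, hs.z1, hs.x1⟩)
      rw [cj_of_comm (mem_centralizer_singleton_iff.1 h4.2).symm, C.J_inj] at hb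
      exact absurd hb.2 (by decide)
  have hdiv : ∀ {g : G} {y : S4}, g * C.J b0 1 = C.J 1 y → g = C.J b0 y := fun {g y} e => by
    rw [← mul_one g, ← C.bb, ← mul_assoc, e, C.J_mul, one_mul, mul_one]
  have H : Hyp C.psi := by
    refine ⟨hinj, fun g hg => ?_, ?_, le_antisymm (fun g hg => ?_) ?_⟩
    · have hc : Commute (C.J b0 1) g := (congrArg Subtype.val hg).symm
      rcases g.2 with h1 | h1
      · obtain ⟨y, e⟩ := hcb _ h1 hc
        exact ⟨(1, y), Subtype.ext e.symm⟩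
      · obtain ⟨y, e⟩ := hcb _ h1 (hc.mul_right (Commute.refl _))
        exact ⟨(Multiplicative.ofAdd 1, y), Subtype.ext (hdiv e).symm⟩
    · have := C.psi.range.card_mul_index
      rw [h48, hY] at this
      rw [show C.psi.range.index = 7 by omega]; decide
    · have h1 : C.psi z1 ∈ (⁅(centralizer ({z1} : Set M)).map C.psi, (centralizer ({z1} : Set M)).map C.psi⁆ :
          Subgroup C.Y) := by
        rw [← show ⁅a1, b1⁆ = z1 by decide, map_commutatorElement]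
        exact commutator_mem_commutator ⟨a1, mem_centralizer_singleton_iff.2 (by decide), rfl⟩
          ⟨b1, mem_centralizer_singleton_iff.2 (by decide), rfl⟩
      have hc : Commute (C.J 1 z0) g := congrArg Subtype.val (hg _ h1)
      rcases g.2 with h1 | h1
      · obtain ⟨d, hd, e⟩ := h.cent_K hz h1 hc
        exact ⟨(1, d), mem_centralizer_singleton_iff.2 (Prod.ext rfl (mem_D.1 hd)), Subtype.ext e.symm⟩
      · obtain ⟨d, hd, e⟩ := h.cent_K hz h1 (hc.mul_right (C.J_comm.2 ⟨by simp, by simp⟩))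
        exact ⟨(Multiplicative.ofAdd 1, d), mem_centralizer_singleton_iff.2 (Prod.ext rfl (mem_D.1 hd)),
          Subtype.ext (hdiv e).symm⟩
    · rw [le_centralizer_iff]
      refine commutator_le.2 fun a ha b hb => ?_
      rcases Hyp.comm_mem ha hb with e | e <;> rw [e]
      · exact one_mem _
      · rintro _ ⟨m, hm, rfl⟩
        rw [← map_mul, ← map_mul, mem_centralizer_singleton_iff.1 hm]
  rcases H.main with e | ⟨⟨e⟩⟩
  · rw [e, card_top, hY] at h48; omega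
  · rw [Nat.card_congr e.toEquiv, Nat.card_perm] at hY
    simp [Nat.factorial] at hY

omit h hz in
theorem not_alt (hq : PRankLE 3 2 𝒩(C.P V ⊥)) (e : C.K ≃* alternatingGroup (Fin 6)) : False := by
  haveI := Fact.mk Nat.prime_three
  let f : alternatingGroup (Fin 6) →* G := C.K.subtype.comp e.symm.toMonoidHom
  have hf : Function.Injective f := C.K.subtype_injective.comp e.symm.injective
  have hK : ∀ a, f a ∈ C.K := fun a => (e.symm a).2
  let x : alternatingGroup (Fin 6) := ⟨swap 0 1 * swap 1 2, mem_alternatingGroup.2 (by decide)⟩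
  let y : alternatingGroup (Fin 6) := ⟨swap 3 4 * swap 4 5, mem_alternatingGroup.2 (by decide)⟩
  have ez : ∀ {a : G}, a ^ 3 = 1 → IsElementaryAbelian 3 (zpowers a) := fun {a} ha => elem_iff.2
    ⟨by rintro _ ⟨k, rfl⟩ _ ⟨l, rfl⟩; exact (Commute.zpow_zpow_self a l k).eq, by
      rintro _ ⟨k, rfl⟩; rw [← zpow_natCast, ← zpow_mul, mul_comm, zpow_mul, zpow_natCast, ha, one_zpow]⟩
  have hx : f x ^ 3 = 1 := by rw [← map_pow, show x ^ 3 = 1 by decide, map_one]
  have hy : f y ^ 3 = 1 := by rw [← map_pow, show y ^ 3 = 1 by decide, map_one]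
  have ht : C.J x0 1 ^ 3 = 1 := by rw [pow_three, C.J_mul, C.J_mul, C.J_eq_one]; decide
  have e2 : IsElementaryAbelian 3 (zpowers (f x) ⊔ zpowers (f y) : Subgroup G) := elem_sup (ez hx) (ez hy) (by
    rintro _ ⟨k, rfl⟩ _ ⟨l, rfl⟩
    exact ((show Commute y x by unfold Commute SemiconjBy; decide).map f).zpow_zpow l k)
  have h2K : zpowers (f x) ⊔ zpowers (f y) ≤ C.K := sup_le (zpowers_le.2 (hK x)) (zpowers_le.2 (hK y))
  have e3 : IsElementaryAbelian 3 (zpowers (f x) ⊔ zpowers (f y) ⊔ zpowers (C.J x0 1) : Subgroup G) :=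
    elem_sup e2 (ez ht) (by
      rintro g hg _ ⟨l, rfl⟩
      exact (C.mem_K.1 (h2K hg)).2.2.zpow_left l)
  have hKN : C.K ≤ 𝒩(C.P V ⊥) := fun g hg => cent_le_norm _ (C.cent_P
    (C.comm_V1 (C.mem_K.1 hg).1 (C.mem_K.1 hg).2.1) fun y hy => by
      rw [mem_bot.1 hy, C.J_one]; exact Commute.one_left g)
  have c3 := CL.Loc.pRankLE_subgroup_iff_ea.1 hq _
    (sup_le (h2K.trans hKN) (zpowers_le.2 (C.mem_norm_P (V_conj _) (by simp)))) e3
  have step : ∀ {A B : Subgroup G}, IsElementaryAbelian 3 B → A < B → 3 * Nat.card A ≤ Nat.card B := by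
    intro A B hB hAB
    obtain ⟨m, hm⟩ := (elem_isP (elem_of_le hB hAB.le)).exists_card_eq
    obtain ⟨n, hn⟩ := (elem_isP hB).exists_card_eq
    have : Nat.card A < Nat.card B := lt_of_not_ge fun hh => hAB.ne (eq_of_le_of_card_ge hAB.le hh)
    rw [hm, hn] at this ⊢
    rw [← pow_succ']
    exact Nat.pow_le_pow_right (by norm_num) ((Nat.pow_lt_pow_iff_right (by norm_num)).1 this)
  have c1 : Nat.card (zpowers (f x)) = 3 := by
    rw [Nat.card_zpowers, orderOf_eq_prime hx fun e => absurd (hf (e.trans (map_one f).symm)) (by decide)]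
  have s2 := step e2 (left_lt_sup.2 fun hle => by
    obtain ⟨k, hk⟩ := hle (mem_zpowers _)
    have h1 : x ^ k = y := hf ((map_zpow f x k).trans hk)
    have h2 : (x : Perm (Fin 6)) 3 = 3 := by decide
    have h3 := zpow_apply_eq_self_of_apply_eq_self h2 k
    rw [← Subgroup.coe_zpow, h1] at h3
    exact absurd h3 (by decide))
  have s3 := step e3 (left_lt_sup.2 fun hle =>
    absurd (C.J_comm.1 (C.mem_K.1 (h2K (hle (mem_zpowers _)))).1).1 (by decide))
  omega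

theorem false [IsSimpleGroup G] (hG : ¬ IsMulCommutative G) (hq : PRankLE 3 2 𝒩(C.P V ⊥)) : False := by
  obtain ⟨g, n1, n2, h1, h2 | h2⟩ := h.stepA hG
  swap
  · exact h.not_five n1 n2 h1 h2
  obtain ⟨s, n, hs⟩ := h.exists_sg hz n1 n2 h1 h2
  rcases h.sg_b hz n hs with hb | hb
  · exact h.stepB hG hs hb
  obtain ⟨F, _, _, hF | hF, ⟨e⟩⟩ := h.psl hz hs
  · exact h.not_168 hz hs hb ((Nat.card_congr e.toEquiv).trans
      (CL.Cls.card_PSL_two_of_card hF (d := 2) rfl two_pos rfl))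
  · exact not_alt hq (e.trans (Cfsg.Agent.S0254.result hF).some)

end Hy

theorem exists_cf {M : Subgroup G} (e : M ≃* blockStabilizerS4wr2) : ∃ C : Cf G, M = C.Tw ⊤ := by
  have hs : ∀ σ : Perm (Fin 4 ⊕ Fin 4), σ ∈ blockStabilizerS4wr2 ↔
      ({σ '' Set.range Sum.inl, σ '' Set.range Sum.inr} : Set (Set (Fin 4 ⊕ Fin 4))) =
        {Set.range Sum.inl, Set.range Sum.inr} := fun σ => by
    rw [blockStabilizerS4wr2, MulAction.mem_stabilizer_iff, Set.smul_set_insert, Set.smul_set_singleton]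
    rfl
  have h1 : ∀ p : S4 × S4, sumCongrHom (Fin 4) (Fin 4) p ∈ blockStabilizerS4wr2 := fun p => by
    have a1 : sumCongrHom (Fin 4) (Fin 4) p '' Set.range Sum.inl = Set.range Sum.inl := by
      rw [← Set.range_comp]
      exact p.1.surjective.range_comp Sum.inl
    have a2 : sumCongrHom (Fin 4) (Fin 4) p '' Set.range Sum.inr = Set.range Sum.inr := by
      rw [← Set.range_comp]
      exact p.2.surjective.range_comp Sum.inr
    rw [hs, a1, a2]
  let w : Perm (Fin 4 ⊕ Fin 4) := Equiv.sumComm _ _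
  have h2 : w ∈ blockStabilizerS4wr2 := by
    rw [hs, ← Set.range_comp, ← Set.range_comp]
    exact Set.pair_comm _ _
  let f : blockStabilizerS4wr2 →* G := M.subtype.comp e.symm.toMonoidHom
  have hf : Function.Injective f := M.subtype_injective.comp e.symm.injective
  let j : S4 × S4 →* blockStabilizerS4wr2 := (sumCongrHom (Fin 4) (Fin 4)).codRestrict _ h1
  refine ⟨⟨f.comp j, hf.comp fun p q h => sumCongrHom_injective (congrArg Subtype.val h), f ⟨w, h2⟩, ?_,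
    fun x y => ?_, fun p h => ?_⟩, le_antisymm (fun g hg => ?_) ?_⟩
  · rw [← map_mul, ← map_one f]
    exact congrArg f (Subtype.ext (Equiv.ext fun a => by cases a <;> rfl))
  · change f ⟨w, h2⟩ * f (j (x, y)) = f (j (y, x)) * f ⟨w, h2⟩
    rw [← map_mul, ← map_mul]
    exact congrArg f (Subtype.ext (Equiv.ext fun a => by cases a <;> rfl))
  · have := congrArg (fun σ : blockStabilizerS4wr2 => (σ : Perm (Fin 4 ⊕ Fin 4)) (Sum.inl 0)) (hf h)
    exact Sum.inl_ne_inr this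
  · obtain ⟨σ, rfl⟩ : ∃ σ, f σ = g := ⟨e ⟨g, hg⟩, by simp [f]⟩
    have h3 := (hs _).1 σ.2
    rcases h3.le (Set.mem_insert _ _) with h4 | h4
    · obtain ⟨p, hp⟩ := mem_sumCongrHom_range_of_perm_mapsTo_inl (Set.mapsTo_iff_image_subset.2 h4.le)
      exact ⟨p.1, trivial, p.2, trivial, Or.inl (congrArg f (Subtype.ext hp.symm))⟩
    · have h5 : Set.MapsTo (w * σ.1) (Set.range Sum.inl) (Set.range Sum.inl) := fun a ha => by
        obtain ⟨b, hb⟩ := (Set.mem_singleton_iff.1 h4).le ⟨a, ha, rfl⟩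
        exact ⟨b, by rw [Perm.mul_apply, ← hb]; rfl⟩
      obtain ⟨p, hp⟩ := mem_sumCongrHom_range_of_perm_mapsTo_inl h5
      refine ⟨p.2, trivial, p.1, trivial, Or.inr ?_⟩
      change _ = f (j (p.2, p.1)) * f ⟨w, h2⟩
      rw [← map_mul]
      refine congrArg f (Subtype.ext ?_)
      have h6 : σ.1 = w * sumCongrHom (Fin 4) (Fin 4) p := by
        rw [hp, ← mul_assoc, show w * w = 1 from Equiv.ext fun a => by cases a <;> rfl, one_mul]
      rw [h6]
      exact Equiv.ext fun a => by cases a <;> rfl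
  · rintro _ ⟨x, -, y, -, rfl | rfl⟩
    · exact (e.symm _).2
    · exact mul_mem (e.symm _).2 (e.symm _).2

theorem main [Finite G] [IsSimpleGroup G] (hG : ¬ IsMulCommutative G) (hQ : IsQTKE G) (T : Sylow 2 G)
    (M : Subgroup G) (hM : M ∈ maxTwoLocalsContaining (T : Subgroup G)) (e : M ≃* blockStabilizerS4wr2) : False := by
  obtain ⟨C, rfl⟩ := exists_cf e
  have hS : IsSylowIn 2 (C.Tw D) ⊤ := by
    refine (isSylowIn_top T).of_card_le C.isP_T le_top ?_
    have h1 := C.card_le_Tw hM.2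
    obtain ⟨k, hk⟩ := (T.isPGroup'.to_le (inf_le_right : C.P ⊤ ⊤ ⊓ T ≤ T)).exists_card_eq
    have h2 := card_dvd_of_le (inf_le_left : C.P ⊤ ⊤ ⊓ T ≤ C.P ⊤ ⊤)
    rw [hk, C.card_P, card_top, Nat.card_perm, Nat.card_eq_fintype_card, Fintype.card_fin] at h2
    have h3 : 2 ^ k ≤ 2 ^ 6 := Nat.pow_le_pow_right (by norm_num) (not_lt.1 fun h4 =>
      absurd ((pow_dvd_pow 2 h4).trans h2) (by decide))
    obtain ⟨m, hm⟩ := card_dvd_of_le (C.P_le_Tw D)
    rw [C.card_P, card_D] at hm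
    have h4 : m ≠ 1 := fun h => C.Jt_notMem (x := 1) (y := 1) ((eq_of_le_of_card_ge (C.P_le_Tw D)
      (by rw [C.card_P, card_D, hm, h])).ge (C.Jt_mem_Tw.2 ⟨one_mem _, one_mem _⟩))
    have h5 := Nat.card_pos (α := C.Tw D)
    rw [hk] at h1
    rcases m with _ | _ | m <;> omega
  have hne : ∀ {X Y : Subgroup S4}, z0 ∈ X → C.P X Y ≠ ⊥ := fun hx h =>
    absurd (C.J_eq_one.1 (mem_bot.1 (h.le (C.J_mem.2 ⟨hx, one_mem _⟩)))).1 (by decide)
  have H : Hy C := ⟨hS, (hM.1.2 _ ⟨_, C.isP_le ((C.F_le _).trans (C.P_le_Tw D)), hne (by decide), rfl⟩ (by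
    rintro _ ⟨x, -, y, -, rfl | rfl⟩
    · exact C.mem_norm_P (V_conj x) (V_conj y)
    · exact mul_mem (C.mem_norm_P (V_conj x) (V_conj y)) (C.T_norm true (C.t_mem D)))).le⟩
  have hzz : C.J z0 z0 * C.J z0 z0 = 1 := by rw [C.J_mul, C.J_eq_one]; decide
  have hz1 : C.J z0 z0 ≠ 1 := fun h => absurd (C.J_eq_one.1 h).1 (by decide)
  have hN : 𝒩(zpowers (C.J z0 z0)) = centralizer {C.J z0 z0} := by
    refine le_antisymm (fun g hg => ?_) fun g hg => cent_le_norm _ ?_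
    · obtain ⟨k, hk⟩ := conj_mem hg (mem_zpowers _)
      obtain ⟨m, rfl | rfl⟩ := Int.even_or_odd' k
      · simp only [zpow_mul, zpow_two, hzz, one_zpow] at hk
        exact absurd (conj_eq_one_iff.1 hk.symm) hz1
      · simp only [zpow_add, zpow_mul, zpow_two, hzz, one_zpow, zpow_one, one_mul] at hk
        exact mem_centralizer_singleton_iff.2 (comm_of_cj hk.symm).eq.symm
    · rintro _ ⟨k, rfl⟩
      exact ((show Commute g _ from mem_centralizer_singleton_iff.1 hg).zpow_right k).eq.symm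
  obtain ⟨S, hS'⟩ := isSylowIn_top_iff.1 hS
  refine H.false (hN ▸ isCharP_iff.2 (hQ.2.2 _ ⟨_, isPGroup_zpowers (k := 1) (by rw [pow_one, pow_two, hzz]),
    fun h => hz1 (zpowers_eq_bot.1 h), rfl⟩ ⟨S, by rw [hS', hN]; exact C.T_cent_z⟩)) hG
    (hQ.1 3 Nat.prime_three (by decide) _ ⟨_, C.isP_le (C.P_le_T (E_le true) bot_le), hne (by decide), rfl⟩)

end CL.WrS
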